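import Cfsg.Agent.Lib.Char.NilpotentDegree
import Cfsg.Agent.Lib.Char.Linear
import Cfsg.Agent.Lib.Char.Orthogonality
import Cfsg.Agent.Lib.PGroup.Basic

/-!
# Class numbers of 2-groups

`4 k(P) ≤ |P| + 3 |P : P'|`; hence a 2-group with at least half as many classes as elements has a
commutator subgroup of order at most two.
-/

set_option autoImplicit false
set_option linter.style.haveILetI false

namespace Cfsg.Lib.TwoClasses

open Subgroup Cfsg Cfsg.Lib.Char
open scoped Classical commutatorElement

universe u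

theorem four_mul_classes_le (X : Type u) [Group X] [Finite X] :
    4 * Nat.card (ConjClasses X) ≤ Nat.card X + 3 * (commutator X).index := by
  haveI := Fintype.ofFinite X
  have h1 : (commutator X).index =
      ∑ χ : IrrCharacter X, if (χ : X → ℂ) 1 = 1 then 1 else 0 := by
    rw [← card_degree_one, Nat.card_eq_fintype_card, Fintype.card_subtype, Finset.card_filter]
  have h2 : Nat.card (ConjClasses X) = ∑ _χ : IrrCharacter X, 1 := by
    rw [← card_irr_eq_card_conjClasses, Nat.card_eq_fintype_card, ← Finset.card_eq_sum_ones, Finset.card_univ]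
  rw [h1, h2, ← NilDegree.sum_sq (X := X), Finset.mul_sum, Finset.mul_sum, ← Finset.sum_add_distrib]
  refine Finset.sum_le_sum fun χ _ => ?_
  have hpos := NilDegree.dg_pos χ
  by_cases h : (χ : X → ℂ) 1 = 1
  · rw [if_pos h]
    have := Nat.one_le_pow 2 (NilDegree.dg χ) hpos
    omega
  · rw [if_neg h]
    have h2 : 2 ≤ NilDegree.dg χ := by
      by_contra hlt
      exact h (by rw [NilDegree.apply_one, show NilDegree.dg χ = 1 by omega, Nat.cast_one])
    have := Nat.pow_le_pow_left h2 2
    omega

/-- With at least `|X|/2` classes the commutators of a 2-group take two values. -/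
theorem exists_commutator_value {X : Type u} [Group X] [Finite X] (hX : IsPGroup 2 X)
    (h : Nat.card X ≤ 2 * Nat.card (ConjClasses X)) :
    ∃ c : X, c ∈ center X ∧ c * c = 1 ∧ ∀ a b : X, ⁅a, b⁆ = 1 ∨ ⁅a, b⁆ = c := by
  haveI : Fact (Nat.Prime 2) := ⟨Nat.prime_two⟩
  have h4 := four_mul_classes_le X
  have h1 := card_mul_index (commutator X)
  have hpos : 0 < (commutator X).index := Nat.pos_of_ne_zero index_ne_zero_of_finite
  have hle : Nat.card (commutator X) ≤ 3 := by
    refine Nat.le_of_mul_le_mul_right ?_ hpos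
    omega
  obtain ⟨k, hk⟩ := (hX.to_subgroup (commutator X)).exists_card_eq
  have hab : ∀ a b : X, ⁅a, b⁆ ∈ commutator X := fun a b => commutator_mem_commutator (mem_top a) (mem_top b)
  rcases k with _ | _ | k
  · have hbot : commutator X = ⊥ := card_eq_one.1 (by simpa using hk)
    exact ⟨1, one_mem _, one_mul 1, fun a b => Or.inl (mem_bot.1 (hbot ▸ hab a b))⟩
  · rw [show 2 ^ (0 + 1) = 2 from rfl] at hk
    obtain ⟨⟨c, hc⟩, hc2⟩ := exists_prime_orderOf_dvd_card' 2 (dvd_of_eq hk.symm)
    rw [Subgroup.orderOf_mk] at hc2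
    have hz : zpowers c = commutator X :=
      eq_of_le_of_card_ge (zpowers_le.2 hc) (by rw [Nat.card_zpowers, hc2, hk])
    refine ⟨c, Cfsg.Lib.PGroup.le_center_of_card_eq_prime (p := 2) hX hk hc, ?_, fun a b => ?_⟩
    · rw [← pow_two, ← hc2, pow_orderOf_eq_one]
    · obtain ⟨i, hi⟩ := (isOfFinOrder_of_finite c).mem_powers_iff_mem_zpowers.2 (hz ▸ hab a b)
      have hc1 : c ^ 2 = 1 := hc2 ▸ pow_orderOf_eq_one c
      simp only at hi
      rcases Nat.even_or_odd i with ⟨j, rfl⟩ | ⟨j, rfl⟩
      · left; rw [← hi, ← two_mul, pow_mul, hc1, one_pow]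
      · right; rw [← hi, pow_succ, pow_mul, hc1, one_pow, one_mul]
  · exfalso
    rw [hk, pow_succ, pow_succ] at hle
    have : 0 < 2 ^ k := pow_pos two_pos k
    omega

end Cfsg.Lib.TwoClasses
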