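import Cfsg.Agent.Lib.TwoClasses.Isolated
import Cfsg.Agent.Lib.TwoClasses.Count

/-!
# Half as many classes of 2-elements as elements of a Sylow 2-subgroup

The excess of the fusion classes over two adds up to the order of the center.
-/

set_option autoImplicit false
set_option linter.style.haveILetI false

namespace Cfsg.Lib.TwoClasses

open Subgroup
open scoped Classical commutatorElement

universe u

variable {G : Type u} [Group G] [Finite G]

/-- The hypotheses, with the value `c` of the commutators of `P`. -/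
structure Ctx (P : Sylow 2 G) (c : G) : Prop where
  core : Cfsg.oddCore G = ⊥
  cmem : c ∈ (P : Subgroup G)
  ccomm : ∀ p ∈ (P : Subgroup G), Commute p c
  csq : c * c = 1
  val : ∀ a ∈ (P : Subgroup G), ∀ b ∈ (P : Subgroup G), b * a * b⁻¹ = a ∨ b * a * b⁻¹ = a * c
  half : 2 * Nat.card {C : ConjClasses G // ∀ x ∈ C.carrier, ∃ k : ℕ, orderOf x = 2 ^ k} =
    Nat.card (P : Subgroup G)

/-- The elements of `P` conjugate to `p`. -/
def fib (P : Sylow 2 G) (p : G) : Set G := {q | q ∈ (P : Subgroup G) ∧ IsConj p q}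

theorem fib_congr {P : Sylow 2 G} {p q : G} (h : IsConj p q) : fib P p = fib P q := by
  ext x
  exact ⟨fun hx => ⟨hx.1, h.symm.trans hx.2⟩, fun hx => ⟨hx.1, h.trans hx.2⟩⟩

theorem self_mem_fib {P : Sylow 2 G} {p : G} (hp : p ∈ (P : Subgroup G)) : p ∈ fib P p := ⟨hp, IsConj.refl p⟩

/-- The class of an element of `P`. -/
def cls (P : Sylow 2 G) (p : ↥(P : Subgroup G)) : ConjClasses G := ConjClasses.mk (p : G)

/-- Every class of 2-elements meets `P`. -/
theorem exists_rep (P : Sylow 2 G) {x : G} (hx : ∃ k : ℕ, orderOf x = 2 ^ k) :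
    ∃ p ∈ (P : Subgroup G), IsConj x p := by
  haveI : Fact (Nat.Prime 2) := ⟨Nat.prime_two⟩
  obtain ⟨k, hk⟩ := hx
  obtain ⟨h, hh⟩ := Invol.exists_conj_mem_sylow P
    (IsPGroup.of_card (n := k) (by rw [Nat.card_zpowers, hk]) : IsPGroup 2 (zpowers x))
  exact ⟨_, hh x (mem_zpowers x), isConj_iff.2 ⟨h, rfl⟩⟩

/-- The classes of 2-elements are the classes of the elements of `P`. -/
theorem card_classes (P : Sylow 2 G) [Fintype (P : Subgroup G)] :
    Nat.card {C : ConjClasses G // ∀ x ∈ C.carrier, ∃ k : ℕ, orderOf x = 2 ^ k} =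
      (Finset.univ.image (cls P)).card := by
  rw [← Nat.card_eq_finsetCard]
  refine Nat.card_congr (Equiv.subtypeEquivRight fun C => ?_)
  obtain ⟨x, rfl⟩ := ConjClasses.mk_surjective C
  simp only [cls, Finset.mem_image, Finset.mem_univ, true_and, ConjClasses.mem_carrier_iff_mk_eq]
  refine ⟨fun h => ?_, ?_⟩
  · obtain ⟨p, hp, hc⟩ := exists_rep P (h x rfl)
    exact ⟨⟨p, hp⟩, ConjClasses.mk_eq_mk_iff_isConj.2 hc.symm⟩
  · rintro ⟨p, hp⟩ y hy
    obtain ⟨g, hg⟩ := isConj_iff.1 (ConjClasses.mk_eq_mk_iff_isConj.1 (hp.trans hy.symm))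
    obtain ⟨k, hk⟩ := IsPGroup.iff_orderOf.1 P.2 p
    rw [Subgroup.orderOf_coe p |>.symm] at hk
    exact ⟨k, by rw [← hg, Invol.orderOf_conj_eq, hk]⟩

variable {P : Sylow 2 G} {c : G}

theorem Ctx.center_le (x : Ctx P c) : center G ≤ (P : Subgroup G) := by
  haveI : Fact (Nat.Prime 2) := ⟨Nat.prime_two⟩
  have h2 : IsPGroup 2 (center G) := by
    intro z
    obtain ⟨k, m, hm, hkm⟩ := Nat.exists_eq_two_pow_mul_odd (orderOf_pos z).ne'
    refine ⟨k, ?_⟩
    have hle : zpowers ((z : G) ^ 2 ^ k) ≤ center G := zpowers_le.2 (pow_mem z.2 _)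
    have hn : (zpowers ((z : G) ^ 2 ^ k)).Normal := ⟨fun w hw g => by
      rw [mem_center_iff.1 (hle hw) g, mul_inv_cancel_right]; exact hw⟩
    have ho : Odd (Nat.card (zpowers ((z : G) ^ 2 ^ k))) := by
      rw [Nat.card_zpowers, ← SubmonoidClass.coe_pow, Subgroup.orderOf_coe,
        orderOf_pow_of_dvd (pow_ne_zero _ two_ne_zero) (hkm ▸ dvd_mul_right _ _), hkm,
        Nat.mul_div_cancel_left _ (pow_pos two_pos k)]
      exact hm
    have hz := ZStar.le_oddCore hn ho (mem_zpowers _)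
    rw [x.core, mem_bot] at hz
    exact Subtype.ext (by simpa using hz)
  obtain ⟨S, hS⟩ := h2.exists_le_sylow
  obtain ⟨g, hg⟩ := MulAction.exists_smul_eq G S P
  intro z hz
  have := smul_mem_pointwise_smul z (MulAut.conj g) (S : Subgroup G) (hS hz)
  rw [MulAut.smul_def, MulAut.conj_apply, mem_center_iff.1 hz g, mul_inv_cancel_right] at this
  rw [← hg]
  exact this

/-- Only the central elements form classes of size one in `P`. -/
theorem Ctx.two_le (x : Ctx P c) {p : G} (hp : p ∈ (P : Subgroup G)) (hpF : p ∉ center G) :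
    2 ≤ (fib P p).ncard := by
  by_contra h
  refine hpF (isolated_mem_center _ G rfl x.core P p hp fun g hg => ?_)
  by_contra hne
  exact h ((Set.one_lt_ncard (Set.toFinite _)).2
    ⟨_, ⟨hg, isConj_iff.2 ⟨g, rfl⟩⟩, _, self_mem_fib hp, hne⟩)

/-- Translation by central elements. -/
theorem Ctx.fib_mul (x : Ctx P c) {f : G} (hf : f ∈ center G) (p : G) :
    fib P (f * p) = (f * ·) '' fib P p := by
  ext q
  constructor
  · rintro ⟨hq, hc⟩
    obtain ⟨g, rfl⟩ := isConj_iff.1 hc
    refine ⟨g * p * g⁻¹, ⟨?_, isConj_iff.2 ⟨g, rfl⟩⟩, ?_⟩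
    · rw [show g * p * g⁻¹ = f⁻¹ * (g * (f * p) * g⁻¹) by
        rw [← mul_assoc g f, mem_center_iff.1 hf g]; group]
      exact mul_mem (inv_mem (x.center_le hf)) hq
    · show f * (g * p * g⁻¹) = _
      rw [← mul_assoc g f, mem_center_iff.1 hf g]; group
  · rintro ⟨r, ⟨hr, hc⟩, rfl⟩
    obtain ⟨g, rfl⟩ := isConj_iff.1 hc
    refine ⟨mul_mem (x.center_le hf) hr, isConj_iff.2 ⟨g, ?_⟩⟩
    show _ = f * (g * p * g⁻¹)
    rw [← mul_assoc g f, mem_center_iff.1 hf g]; group

theorem Ctx.ncard_mul (x : Ctx P c) {f : G} (hf : f ∈ center G) (p : G) :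
    (fib P (f * p)).ncard = (fib P p).ncard := by
  rw [x.fib_mul hf, Set.ncard_image_of_injective _ (mul_right_injective f)]

/-- The excesses of pairwise nonconjugate noncentral elements sum to at most `|Z(G)|`. -/
theorem Ctx.excess_le (x : Ctx P c) (T : Finset G) (hT : ∀ p ∈ T, p ∈ (P : Subgroup G) ∧ p ∉ center G)
    (hconj : ∀ p ∈ T, ∀ q ∈ T, IsConj p q → p = q) :
    ∑ p ∈ T, ((fib P p).ncard - 2) ≤ Nat.card (center G) := by
  haveI := Fintype.ofFinite (P : Subgroup G)

  set I := (Finset.univ : Finset (P : Subgroup G)).image (cls P)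
  let N : ConjClasses G → ℕ := fun C => (Finset.univ.filter fun p : (P : Subgroup G) => (cls P) p = C).card
  have hN : ∀ p : G, N (ConjClasses.mk p) = (fib P p).ncard := by
    intro p
    rw [← Nat.card_coe_set_eq]
    simp only [N]
    rw [← Nat.card_eq_finsetCard]
    refine Nat.card_congr
      { toFun := fun q => ⟨(q.1 : G), q.1.2, (ConjClasses.mk_eq_mk_iff_isConj.1 (Finset.mem_filter.1 q.2).2).symm⟩
        invFun := fun q => ⟨⟨q.1, q.2.1⟩, Finset.mem_filter.2 ⟨Finset.mem_univ _,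
          ConjClasses.mk_eq_mk_iff_isConj.2 q.2.2.symm⟩⟩
        left_inv := fun q => rfl
        right_inv := fun q => rfl }
  have hsum : Nat.card (P : Subgroup G) = ∑ C ∈ I, N C := by
    rw [Nat.card_eq_fintype_card, ← Finset.card_univ,
      Finset.card_eq_sum_card_fiberwise (f := (cls P)) (t := I) fun p _ => Finset.mem_image_of_mem (cls P) (Finset.mem_univ p)]
  let Fs : Finset G := (center G : Set G).toFinite.toFinset
  have hFs : Fs.card = Nat.card (center G) := by
    rw [← Set.ncard_eq_toFinset_card _ (center G : Set G).toFinite, ← Nat.card_coe_set_eq]; rfl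
  have hmem : ∀ p ∈ (P : Subgroup G), ConjClasses.mk p ∈ I := fun p hp =>
    Finset.mem_image.2 ⟨⟨p, hp⟩, Finset.mem_univ _, rfl⟩
  set IF := Fs.image (ConjClasses.mk : G → ConjClasses G)
  set IT := T.image (ConjClasses.mk : G → ConjClasses G)
  have hFc : ∀ f ∈ center G, ∀ q : G, IsConj f q → q = f := fun f hf q h => by
    obtain ⟨g, rfl⟩ := isConj_iff.1 h
    rw [mem_center_iff.1 hf g, mul_inv_cancel_right]
  have hIF : IF.card = Fs.card := Finset.card_image_of_injOn fun f hf q hq h =>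
    (hFc f ((Set.Finite.mem_toFinset _).1 (Finset.mem_coe.1 hf)) q (ConjClasses.mk_eq_mk_iff_isConj.1 h)).symm
  have hIT : IT.card = T.card := Finset.card_image_of_injOn fun p hp q hq h =>
    hconj p hp q hq (ConjClasses.mk_eq_mk_iff_isConj.1 h)
  have hdis : Disjoint IF IT := by
    rw [Finset.disjoint_left]
    intro C hC hC'
    obtain ⟨f, hf, rfl⟩ := Finset.mem_image.1 hC
    obtain ⟨p, hp, he⟩ := Finset.mem_image.1 hC'
    exact (hT p hp).2 (hFc f ((Set.Finite.mem_toFinset _).1 hf) p (ConjClasses.mk_eq_mk_iff_isConj.1 he.symm) ▸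
      ((Set.Finite.mem_toFinset _).1 hf))
  have hsub : IF ∪ IT ⊆ I := by
    intro C hC
    rcases Finset.mem_union.1 hC with h | h <;> obtain ⟨p, hp, rfl⟩ := Finset.mem_image.1 h
    · exact hmem p (x.center_le ((Set.Finite.mem_toFinset _).1 hp))
    · exact hmem p (hT p hp).1
  have hrest : ∀ C ∈ I \ (IF ∪ IT), 2 ≤ N C := by
    intro C hC
    obtain ⟨hCI, hC'⟩ := Finset.mem_sdiff.1 hC
    obtain ⟨p, -, rfl⟩ := Finset.mem_image.1 hCI
    show 2 ≤ N (ConjClasses.mk (p : G))
    rw [hN]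
    exact x.two_le p.2 fun h => hC' (Finset.mem_union_left _
      (Finset.mem_image_of_mem _ ((Set.Finite.mem_toFinset _).2 h)))
  have h1 := Finset.sum_sdiff hsub (f := N)
  rw [Finset.sum_union hdis, ← hsum] at h1
  have h2 : Fs.card = ∑ C ∈ IF, N C := by
    rw [← hIF, Finset.card_eq_sum_ones]
    refine Finset.sum_congr rfl fun C hC => ?_
    obtain ⟨f, hf, rfl⟩ := Finset.mem_image.1 hC
    have hf' := ((Set.Finite.mem_toFinset _).1 hf)
    rw [hN, show fib P f = {f} from Set.eq_singleton_iff_unique_mem.2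
      ⟨self_mem_fib (x.center_le hf'), fun q hq => hFc f hf' q hq.2⟩, Set.ncard_singleton]
  have h3 : ∑ C ∈ IT, N C = ∑ p ∈ T, ((fib P p).ncard - 2) + 2 * T.card := by
    rw [Finset.sum_image fun p hp q hq h => hconj p hp q hq (ConjClasses.mk_eq_mk_iff_isConj.1 h),
      Finset.card_eq_sum_ones, Finset.mul_sum, ← Finset.sum_add_distrib]
    refine Finset.sum_congr rfl fun p hp => ?_
    rw [hN]
    have := x.two_le (hT p hp).1 (hT p hp).2
    omega
  have h4 : (I \ (IF ∪ IT)).card • 2 ≤ ∑ C ∈ I \ (IF ∪ IT), N C := Finset.card_nsmul_le_sum _ N 2 hrest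
  rw [smul_eq_mul, Finset.card_sdiff_of_subset hsub, Finset.card_union_of_disjoint hdis, hIF, hIT] at h4
  have h5 : 2 * I.card = Nat.card (P : Subgroup G) := by
    have h := x.half; rw [card_classes P] at h; exact h
  have h6 : Fs.card + T.card ≤ I.card := by
    rw [← hIF, ← hIT, ← Finset.card_union_of_disjoint hdis]; exact Finset.card_le_card hsub
  omega

/-- Some class meets `P` in at least three elements. -/
theorem Ctx.exists_big (x : Ctx P c) : ∃ p ∈ (P : Subgroup G), p ∉ center G ∧ 3 ≤ (fib P p).ncard := by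
  by_contra hne
  push Not at hne
  haveI := Fintype.ofFinite (P : Subgroup G)
  have hle : ∀ C ∈ (Finset.univ : Finset (P : Subgroup G)).image (cls P),
      (Finset.univ.filter fun p : (P : Subgroup G) => (cls P) p = C).card ≤
        if ∃ f ∈ center G, ConjClasses.mk f = C then 1 else 2 := by
    intro C hC
    obtain ⟨p, -, rfl⟩ := Finset.mem_image.1 hC
    have hcard : (Finset.univ.filter fun q : (P : Subgroup G) => (cls P) q = (cls P) p).card ≤ (fib P (p : G)).ncard := by
      rw [← Nat.card_eq_finsetCard, ← Nat.card_coe_set_eq]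
      exact Nat.card_le_card_of_injective (fun q => (⟨(q.1 : G), q.1.2,
        (ConjClasses.mk_eq_mk_iff_isConj.1 (Finset.mem_filter.1 q.2).2).symm⟩ : fib P (p : G)))
        fun a b h => Subtype.ext (Subtype.ext (congrArg Subtype.val h :))
    split_ifs with h
    · obtain ⟨f, hf, hfe⟩ := h
      refine hcard.trans ?_
      rw [fib_congr (ConjClasses.mk_eq_mk_iff_isConj.1 hfe).symm]
      refine (Set.ncard_le_ncard (t := {f}) fun q hq => ?_).trans (Set.ncard_singleton f).le
      obtain ⟨g, hg⟩ := isConj_iff.1 hq.2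
      rw [← hg, mem_center_iff.1 hf g, mul_inv_cancel_right]; rfl
    · exact hcard.trans (Nat.le_of_lt_succ (hne p p.2 fun hp => h ⟨p, hp, rfl⟩))
  have hsum := Finset.sum_lt_sum (s := (Finset.univ : Finset (P : Subgroup G)).image (cls P))
    (f := fun C => if ∃ f ∈ center G, ConjClasses.mk f = C then 1 else 2) (g := fun _ => 2)
    (fun C _ => by split_ifs <;> norm_num)
    ⟨(cls P) 1, Finset.mem_image_of_mem (cls P) (Finset.mem_univ _), by
      rw [if_pos ⟨1, one_mem _, rfl⟩]; norm_num⟩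
  have h1 := (Finset.card_eq_sum_card_fiberwise (f := (cls P)) (s := Finset.univ)
    (t := Finset.univ.image (cls P)) fun p _ => Finset.mem_image_of_mem (cls P) (Finset.mem_univ p)).trans_le
    (Finset.sum_le_sum hle)
  rw [Finset.card_univ, ← Nat.card_eq_fintype_card, ← x.half, card_classes P] at h1
  rw [Finset.sum_const, smul_eq_mul] at hsum
  omega

end Cfsg.Lib.TwoClasses
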