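import Cfsg.Agent.Lib.TwoClasses.Ctx
import Cfsg.Agent.Lib.CyclicZ.One

/-!
# The Sylow 2-subgroup modulo the center

With half as many classes of 2-elements as elements of a Sylow 2-subgroup, the Sylow 2-subgroup is a four
group or dihedral of order eight modulo the center, and in the latter case the quotient has two classes
of involutions.
-/

set_option autoImplicit false
set_option linter.style.haveILetI false

namespace Cfsg.Lib.TwoClasses

open Subgroup
open scoped Classical commutatorElement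

universe u

variable {G : Type u} [Group G] [Finite G] {P : Sylow 2 G} {c : G}

/-- Some odd power of an element normalising `P` centralises every central element of `P`. -/
theorem exists_odd_pow_mem (P : Sylow 2 G) {n : G} (hn : n ∈ normalizer ((P : Subgroup G) : Set G)) :
    ∃ m : ℕ, Odd m ∧ n ^ m ∈ (P : Subgroup G) := by
  haveI : Fact (Nat.Prime 2) := ⟨Nat.prime_two⟩
  obtain ⟨k, m, hm, hkm⟩ := Nat.exists_eq_two_pow_mul_odd (orderOf_pos n).ne'
  have hp : IsPGroup 2 (zpowers (n ^ m)) := IsPGroup.of_card (n := k) (by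
    rw [Nat.card_zpowers, orderOf_pow_of_dvd hm.pos.ne' (hkm ▸ dvd_mul_left _ _), hkm,
      Nat.mul_div_cancel _ hm.pos])
  exact ⟨m, hm, ((hp.inf_normalizer_sylow P).le ⟨mem_zpowers _, pow_mem hn m⟩).2⟩

theorem conj_mem_of_normalizer (P : Sylow 2 G) {n p : G} (hn : n ∈ normalizer ((P : Subgroup G) : Set G))
    (hp : p ∈ (P : Subgroup G)) : n * p * n⁻¹ ∈ (P : Subgroup G) :=
  (mem_normalizer_iff.1 hn p).1 hp

/-- An element centralising `z` at an odd power and squaring to fix `z` fixes `z`. -/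
theorem fix_of_odd_power {n z : G} {m : ℕ} (hm : Odd m) (h2 : n * (n * z * n⁻¹) * n⁻¹ = z)
    (hnm : Commute (n ^ m) z) : n * z * n⁻¹ = z := by
  obtain ⟨j, rfl⟩ := hm
  have hc : Commute (n ^ 2) z := mul_inv_eq_iff_eq_mul.1 (by
    rw [show n ^ 2 * z * (n ^ 2)⁻¹ = n * (n * z * n⁻¹) * n⁻¹ by rw [pow_two]; group, h2])
  have hcn : Commute n z := by
    have := (((hc.pow_left j).inv_left).mul_left hnm)
    rwa [← pow_mul, pow_succ, inv_mul_cancel_left] at this
  rw [hcn.eq, mul_inv_cancel_right]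

/-- A central element of `P` is not conjugate to a proper translate of itself. -/
theorem Ctx.translate_eq (x : Ctx P c) {z f : G} (hz : z ∈ (P : Subgroup G))
    (hzc : ∀ p ∈ (P : Subgroup G), Commute p z) (hf : f ∈ center G) (h : IsConj z (f * z)) : f = 1 := by
  haveI : Fact (Nat.Prime 2) := ⟨Nat.prime_two⟩
  obtain ⟨g, hg⟩ := isConj_iff.1 h
  have hfz : ∀ p ∈ (P : Subgroup G), Commute p (f * z) := fun p hp =>
    Commute.mul_right (mem_center_iff.1 hf p) (hzc p hp)
  obtain ⟨n, hn, he⟩ := P.conj_eq_normalizer_conj_of_mem_centralizer z g⁻¹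
    (mem_centralizer_iff.2 hzc) (mem_centralizer_iff.2 fun p hp => by rw [inv_inv, hg]; exact hfz p hp)
  rw [inv_inv, hg] at he
  have hn' := inv_mem hn
  obtain ⟨m, hm, hmP⟩ := exists_odd_pow_mem P hn'
  have hpow : ∀ j : ℕ, n⁻¹ ^ j * z * (n⁻¹ ^ j)⁻¹ = f ^ j * z := by
    intro j
    induction j with
    | zero => simp
    | succ j ih =>
      rw [show n⁻¹ ^ (j + 1) * z * (n⁻¹ ^ (j + 1))⁻¹ = n⁻¹ * (n⁻¹ ^ j * z * (n⁻¹ ^ j)⁻¹) * n⁻¹⁻¹ by
          rw [pow_succ']; group, ih, inv_inv, ← mul_assoc n⁻¹, mem_center_iff.1 (pow_mem hf j) n⁻¹,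
        show f ^ j * n⁻¹ * z * n = f ^ j * (n⁻¹ * z * n) by group, ← he, ← mul_assoc, ← pow_succ]
  have hfm := hpow m
  rw [(hzc _ hmP).eq, mul_inv_cancel_right] at hfm
  have hfm' : f ^ m = 1 := mul_eq_right.1 hfm.symm
  obtain ⟨k, hk⟩ := IsPGroup.iff_orderOf.1 P.2 ⟨f, x.center_le hf⟩
  rw [Subgroup.orderOf_mk] at hk
  exact orderOf_eq_one_iff.1 (Nat.eq_one_of_dvd_coprimes ((Nat.coprime_two_left.2 hm).pow_left k)
    (dvd_of_eq hk) (orderOf_dvd_of_pow_eq_one hfm'))

/-- The conjugates in `P` under `P` itself. -/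
theorem Ctx.pair (x : Ctx P c) {p : G} (hp : p ∈ (P : Subgroup G))
    (hnc : ¬ ∀ q ∈ (P : Subgroup G), Commute q p) : p * c ∈ fib P p ∧ p * c ≠ p := by
  push Not at hnc
  obtain ⟨q, hq, hqp⟩ := hnc
  rcases x.val p hp q hq with h | h
  · exact absurd (mul_inv_eq_iff_eq_mul.1 h) hqp
  · refine ⟨⟨mul_mem hp x.cmem, isConj_iff.2 ⟨q, h⟩⟩, fun he => hqp ?_⟩
    exact mul_inv_eq_iff_eq_mul.1 (h.trans he)

/-- A central element outside the center has exactly three conjugates in `P`, and every element not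
conjugate to a translate has two. -/
theorem Ctx.three (x : Ctx P c) {z : G} (hz : z ∈ (P : Subgroup G)) (hzc : ∀ p ∈ (P : Subgroup G), Commute p z)
    (hzF : z ∉ center G) :
    (fib P z).ncard = 3 ∧ ∀ q ∈ (P : Subgroup G), q ∉ center G → (∀ f ∈ center G, ¬ IsConj q (f * z)) →
      (fib P q).ncard = 2 := by
  haveI : Fact (Nat.Prime 2) := ⟨Nat.prime_two⟩
  haveI := Fintype.ofFinite G
  have h3 : 3 ≤ (fib P z).ncard := by
    by_contra hlt
    have h2 : (fib P z).ncard = 2 := le_antisymm (by omega) (x.two_le hz hzF)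
    obtain ⟨w, hw, hwz⟩ := Set.exists_ne_of_one_lt_ncard (show 1 < (fib P z).ncard by omega) z
    have hset : ∀ v ∈ fib P z, v = z ∨ v = w := by
      intro v hv
      by_contra hne
      push Not at hne
      have hsub : ({z, w, v} : Set G) ⊆ fib P z := by
        rintro y (rfl | rfl | rfl)
        exacts [self_mem_fib hz, hw, hv]
      have := Set.ncard_le_ncard hsub
      rw [Set.ncard_insert_of_notMem (by simp [hwz.symm, hne.1.symm]), Set.ncard_pair hne.2.symm] at this
      omega
    by_cases hwc : ∀ q ∈ (P : Subgroup G), Commute q w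
    · obtain ⟨g, hg⟩ := isConj_iff.1 hw.2
      obtain ⟨n, hn, he⟩ := P.conj_eq_normalizer_conj_of_mem_centralizer z g⁻¹
        (mem_centralizer_iff.2 hzc) (mem_centralizer_iff.2 fun p hp => by rw [inv_inv, hg]; exact hwc p hp)
      rw [inv_inv, hg] at he
      have hn' := inv_mem hn
      have h1 : n⁻¹ * z * n⁻¹⁻¹ = w := by rw [inv_inv]; exact he.symm
      have hw2 : n⁻¹ * w * n⁻¹⁻¹ ∈ fib P z :=
        ⟨conj_mem_of_normalizer P hn' hw.1, hw.2.trans (isConj_iff.2 ⟨n⁻¹, rfl⟩)⟩
      have h2' : n⁻¹ * w * n⁻¹⁻¹ = z := (hset _ hw2).resolve_right fun h =>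
        hwz ((mul_left_cancel (mul_right_cancel (h.trans h1.symm))))
      obtain ⟨m, hm, hmP⟩ := exists_odd_pow_mem P hn'
      exact hwz (h1.symm.trans (fix_of_odd_power hm (by rw [h1, h2']) (hzc _ hmP)))
    · obtain ⟨hwc', hne⟩ := x.pair hw.1 hwc
      rcases hset (w * c) ⟨hwc'.1, hw.2.trans hwc'.2⟩ with h | h
      · refine hwc fun q hq => ?_
        have h' : w = z * c := by rw [← h, mul_assoc, x.csq, mul_one]
        rw [h']; exact (hzc q hq).mul_right (x.ccomm q hq)
      · exact hne h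
  -- the translates are pairwise nonconjugate
  set T : Finset G := (center G : Set G).toFinite.toFinset.image (· * z)
  have hT : ∀ p ∈ T, ∃ f ∈ center G, p = f * z := fun p hp => by
    obtain ⟨f, hf, rfl⟩ := Finset.mem_image.1 hp
    exact ⟨f, (Set.Finite.mem_toFinset _).1 hf, rfl⟩
  have hTP : ∀ p ∈ T, p ∈ (P : Subgroup G) ∧ p ∉ center G := fun p hp => by
    obtain ⟨f, hf, rfl⟩ := hT p hp
    exact ⟨mul_mem (x.center_le hf) hz, fun h => hzF ((mul_mem_cancel_left hf).1 h)⟩
  have hTc : ∀ p ∈ T, ∀ q ∈ T, IsConj p q → p = q := fun p hp q hq h => by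
    obtain ⟨f, hf, rfl⟩ := hT p hp
    obtain ⟨f', hf', rfl⟩ := hT q hq
    obtain ⟨g, hg⟩ := isConj_iff.1 h
    have h' : IsConj z (f⁻¹ * f' * z) := isConj_iff.2 ⟨g, by
      rw [mul_assoc f⁻¹, ← hg, ← mul_assoc g f, mem_center_iff.1 hf g]; group⟩
    rw [inv_mul_eq_one.1 (x.translate_eq hz hzc (mul_mem (inv_mem hf) hf') h')]
  have hTcard : T.card = Nat.card (center G) := by
    rw [Finset.card_image_of_injective _ (mul_left_injective z),
      ← Set.ncard_eq_toFinset_card _ (center G : Set G).toFinite, ← Nat.card_coe_set_eq]; rfl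
  have hsum : ∑ p ∈ T, ((fib P p).ncard - 2) = T.card * ((fib P z).ncard - 2) := by
    rw [Finset.sum_congr rfl (g := fun _ => (fib P z).ncard - 2) fun p hp => by
      obtain ⟨f, hf, rfl⟩ := hT p hp
      rw [x.ncard_mul hf], Finset.sum_const, smul_eq_mul]
  have hle := x.excess_le T hTP hTc
  rw [hsum, hTcard] at hle
  have hpos : 0 < Nat.card (center G) := Nat.card_pos
  have h3' : (fib P z).ncard = 3 := by
    have := Nat.le_of_mul_le_mul_left (hle.trans_eq (mul_one _).symm) hpos
    omega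
  refine ⟨h3', fun q hq hqF hqT => ?_⟩
  have hqT' : q ∉ T := fun h => by
    obtain ⟨f, hf, rfl⟩ := hT q h
    exact hqT f hf (IsConj.refl _)
  have hle2 := x.excess_le (insert q T) (fun p hp => by
      rcases Finset.mem_insert.1 hp with rfl | hp
      exacts [⟨hq, hqF⟩, hTP p hp]) (fun p hp p' hp' h => by
      rcases Finset.mem_insert.1 hp with e | hpT <;> rcases Finset.mem_insert.1 hp' with e' | hpT'
      · rw [e, e']
      · obtain ⟨f, hf, hfe⟩ := hT p' hpT'
        exact absurd (e ▸ hfe ▸ h) (hqT f hf)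
      · obtain ⟨f, hf, hfe⟩ := hT p hpT
        exact absurd (e' ▸ hfe ▸ h.symm) (hqT f hf)
      · exact hTc p hpT p' hpT' h)
  rw [Finset.sum_insert hqT', hsum, hTcard, h3'] at hle2
  have := x.two_le hq hqF
  omega

/-- An element normalising `P` and preserving an element pair fixes it. -/
theorem Ctx.fix_pair (x : Ctx P c) {n q : G} (hn : n ∈ normalizer ((P : Subgroup G) : Set G))
    (hn' : Odd (orderOf n)) (hq : q ∈ (P : Subgroup G)) (h2 : (fib P q).ncard = 2) : n * q * n⁻¹ = q := by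
  by_contra hne
  have hm : n * q * n⁻¹ ∈ fib P q := ⟨conj_mem_of_normalizer P hn hq, isConj_iff.2 ⟨n, rfl⟩⟩
  have hm2 : n * (n * q * n⁻¹) * n⁻¹ ∈ fib P q :=
    ⟨conj_mem_of_normalizer P hn hm.1, hm.2.trans (isConj_iff.2 ⟨n, rfl⟩)⟩
  have hback : n * (n * q * n⁻¹) * n⁻¹ = q := by
    by_contra h
    have hne2 : n * (n * q * n⁻¹) * n⁻¹ ≠ n * q * n⁻¹ := fun e => hne (mul_left_cancel (mul_right_cancel e))
    have hsub : ({q, n * q * n⁻¹, n * (n * q * n⁻¹) * n⁻¹} : Set G) ⊆ fib P q := by
      rintro y (rfl | rfl | rfl)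
      exacts [self_mem_fib hq, hm, hm2]
    have := Set.ncard_le_ncard hsub
    rw [Set.ncard_insert_of_notMem (by
      simp only [Set.mem_insert_iff, Set.mem_singleton_iff, not_or]
      exact ⟨Ne.symm hne, Ne.symm h⟩), Set.ncard_pair hne2.symm] at this
    omega
  exact hne (fix_of_odd_power hn' hback (by rw [pow_orderOf_eq_one]; exact Commute.one_left q))

/-- What the quotient by the center looks like. -/
def QuotFacts (P : Sylow 2 G) : Prop :=
  ∀ Q : Sylow 2 (G ⧸ center G), (Q : Subgroup (G ⧸ center G)) = (P : Subgroup G).map (QuotientGroup.mk' (center G)) →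
    GW.CycDih (Q : Subgroup (G ⧸ center G)) ∧
      (∃ z ∈ (Q : Subgroup (G ⧸ center G)), (∀ q ∈ (Q : Subgroup (G ⧸ center G)), Commute q z) ∧
        ∃ w ∈ (Q : Subgroup (G ⧸ center G)), IsConj z w ∧ w ≠ z) ∧
      (Nat.card (Q : Subgroup (G ⧸ center G)) = 4 ∨
        Nat.card (Q : Subgroup (G ⧸ center G)) = 8 ∧ ∃ s t : G ⧸ center G,
          s ∈ (Q : Subgroup (G ⧸ center G)) ∧ t ∈ (Q : Subgroup (G ⧸ center G)) ∧
            orderOf s = 2 ∧ orderOf t = 2 ∧ ¬ IsConj s t)

/-- Three central conjugates: `P` is abelian and a four group modulo the center. -/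
theorem Ctx.facts_abelian (x : Ctx P c) {z w : G} (hz : z ∈ (P : Subgroup G))
    (hzc : ∀ p ∈ (P : Subgroup G), Commute p z) (hzF : z ∉ center G) (hw : w ∈ fib P z)
    (hwc : ∀ p ∈ (P : Subgroup G), Commute p w) (hwz : w ≠ z) : QuotFacts P := by
  haveI : Fact (Nat.Prime 2) := ⟨Nat.prime_two⟩
  obtain ⟨h3, h2⟩ := x.three hz hzc hzF
  -- all three conjugates are central
  have hall : ∀ v ∈ fib P z, ∀ p ∈ (P : Subgroup G), Commute p v := by
    intro v hv
    by_contra hvc
    obtain ⟨hvc', hne⟩ := x.pair hv.1 hvc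
    have hv' : v * c ∈ fib P z := ⟨hvc'.1, hv.2.trans hvc'.2⟩
    have hd : ∀ e : G, (∀ p ∈ (P : Subgroup G), Commute p e) → e ≠ v ∧ e ≠ v * c := fun e he =>
      ⟨fun h => hvc (h ▸ he), fun h => hvc fun p hp => by
        have := (he p hp).mul_right (x.ccomm p hp)
        rwa [h, mul_assoc, x.csq, mul_one] at this⟩
    have hsub : ({z, w, v, v * c} : Set G) ⊆ fib P z := by
      rintro y (rfl | rfl | rfl | rfl)
      exacts [self_mem_fib hz, hw, hv, hv']
    have := Set.ncard_le_ncard hsub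
    rw [Set.ncard_insert_of_notMem (by simp [hwz.symm, (hd z hzc).1, (hd z hzc).2]),
      Set.ncard_insert_of_notMem (by simp [(hd w hwc).1, (hd w hwc).2]), Set.ncard_pair hne.symm] at this
    omega
  have hctr : ∀ q ∈ (P : Subgroup G), ∀ f ∈ center G, IsConj q (f * z) →
      ∀ p ∈ (P : Subgroup G), Commute p q := by
    intro q hq f hf h p hp
    have hqf : q ∈ fib P (f * z) := ⟨hq, h.symm⟩
    rw [x.fib_mul hf] at hqf
    obtain ⟨v, hv, rfl⟩ := hqf
    exact Commute.mul_right (mem_center_iff.1 hf p) (hall v hv p hp)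
  -- an element of odd order moves `z`
  obtain ⟨n, hn, hno, hnz⟩ : ∃ n ∈ normalizer ((P : Subgroup G) : Set G), Odd (orderOf n) ∧ n * z * n⁻¹ ≠ z := by
    obtain ⟨g, hg⟩ := isConj_iff.1 hw.2
    obtain ⟨n, hn, he⟩ := P.conj_eq_normalizer_conj_of_mem_centralizer z g⁻¹
      (mem_centralizer_iff.2 hzc) (mem_centralizer_iff.2 fun p hp => by rw [inv_inv, hg]; exact hwc p hp)
    rw [inv_inv, hg] at he
    by_contra hne
    push Not at hne
    obtain ⟨m, hm, hmP⟩ := exists_odd_pow_mem P hn
    obtain ⟨k, m', hm', hkm⟩ := Nat.exists_eq_two_pow_mul_odd (orderOf_pos n).ne'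
    have h1 : Commute (n ^ 2 ^ k) z := mul_inv_eq_iff_eq_mul.1 (hne _ (pow_mem hn _) (by
      rw [orderOf_pow_of_dvd (pow_ne_zero _ two_ne_zero) (hkm ▸ dvd_mul_right _ _), hkm,
        Nat.mul_div_cancel_left _ (pow_pos two_pos k)]
      exact hm'))
    have hnz : Commute n z := by
      have hg := Nat.gcd_eq_gcd_ab (2 ^ k) m
      rw [((Nat.coprime_two_left.2 hm).pow_left k : Nat.gcd (2 ^ k) m = 1), Nat.cast_one] at hg
      rw [← zpow_one n, hg, zpow_add, _root_.zpow_mul, _root_.zpow_mul, zpow_natCast, zpow_natCast]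
      exact (h1.zpow_left _).mul_left ((hzc _ hmP).zpow_left _)
    exact hwz (by rw [he, mul_assoc, ← hnz.eq, inv_mul_cancel_left])
  have hfix : ∀ q ∈ (P : Subgroup G), (¬ ∀ p ∈ (P : Subgroup G), Commute p q) → Commute n q := by
    intro q hq hqc
    refine mul_inv_eq_iff_eq_mul.1 (x.fix_pair hn hno hq (h2 q hq (fun h => hqc fun p _ => mem_center_iff.1 h p) ?_))
    exact fun f hf h => hqc (hctr q hq f hf h)
  have hab : ∀ q ∈ (P : Subgroup G), ∀ p ∈ (P : Subgroup G), Commute p q := by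
    intro q hq
    by_contra hqc
    have h1 := hfix q hq hqc
    have h2' := hfix (z * q) (mul_mem hz hq) fun h => hqc fun p hp => by
      have := ((hzc p hp).inv_right).mul_right (h p hp)
      rwa [inv_mul_cancel_left] at this
    have h3 : Commute n z := by
      have := h2'.mul_right h1.inv_right
      rwa [mul_inv_cancel_right] at this
    exact hnz (by rw [h3.eq, mul_inv_cancel_right])
  have hcover : ∀ q ∈ (P : Subgroup G), q ∈ center G ∨ ∃ f ∈ center G, ∃ v ∈ fib P z, q = f * v := by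
    intro q hq
    by_cases hqF : q ∈ center G
    · exact Or.inl hqF
    right
    by_contra hne
    push Not at hne
    have h3q := (x.three hq (hab q hq) hqF).1
    have h2q := h2 q hq hqF fun f hf h => by
      have hqf : q ∈ fib P (f * z) := ⟨hq, h.symm⟩
      rw [x.fib_mul hf] at hqf
      obtain ⟨v, hv, hve⟩ := hqf
      exact hne f hf v hv hve.symm
    omega
  intro Q hQ
  set π := QuotientGroup.mk' (center G)
  have hfibπ : ∀ v ∈ fib P z, ∀ v' ∈ fib P z, π v = π v' → v = v' := by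
    intro v hv v' hv' h
    have hf : v' * v⁻¹ ∈ center G := by
      have h' := (QuotientGroup.eq_one_iff (N := center G) (v' * v⁻¹)).1 (by
        show π (v' * v⁻¹) = 1
        rw [map_mul, map_inv, h, mul_inv_cancel])
      exact h'
    have := x.translate_eq hv.1 (hall v hv) hf (by rw [inv_mul_cancel_right]; exact hv.2.symm.trans hv'.2)
    exact (mul_inv_eq_one.1 this).symm
  have hone : ∀ v ∈ fib P z, π v ≠ 1 := fun v hv h => by
    obtain ⟨g, hg⟩ := isConj_iff.1 hv.2.symm
    have hvc : v ∈ center G := (QuotientGroup.eq_one_iff _).1 h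
    rw [mem_center_iff.1 hvc g, mul_inv_cancel_right] at hg
    exact hzF (hg ▸ hvc)
  obtain ⟨v, hv, hvz, hvw⟩ : ∃ v ∈ fib P z, v ≠ z ∧ v ≠ w := by
    by_contra hne
    push Not at hne
    have hsub : fib P z ⊆ {z, w} := fun v hv => by
      by_cases h : v = z
      · exact Or.inl h
      · exact Or.inr (hne v hv h)
    have := Set.ncard_le_ncard hsub
    rw [Set.ncard_pair hwz.symm] at this
    omega
  have hfib : ∀ v' ∈ fib P z, v' = z ∨ v' = w ∨ v' = v := by
    intro v' hv'
    by_contra hne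
    push Not at hne
    have hsub : ({z, w, v, v'} : Set G) ⊆ fib P z := by
      rintro y (rfl | rfl | rfl | rfl)
      exacts [self_mem_fib hz, hw, hv, hv']
    have := Set.ncard_le_ncard hsub
    rw [Set.ncard_insert_of_notMem (by simp [hwz.symm, hvz.symm, hne.1.symm]),
      Set.ncard_insert_of_notMem (by simp [hvw.symm, hne.2.1.symm]), Set.ncard_pair hne.2.2.symm] at this
    omega
  have hQset : ((Q : Subgroup (G ⧸ center G)) : Set (G ⧸ center G)) = {1, π z, π w, π v} := by
    rw [hQ]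
    refine Set.Subset.antisymm ?_ ?_
    · rintro _ ⟨q, hq, rfl⟩
      rcases hcover q hq with h | ⟨f, hf, v', hv', rfl⟩
      · exact Or.inl ((QuotientGroup.eq_one_iff q).2 h)
      · rw [map_mul, show π f = 1 from (QuotientGroup.eq_one_iff f).2 hf, one_mul]
        rcases hfib v' hv' with rfl | rfl | rfl <;> simp
    · rintro _ (rfl | rfl | rfl | rfl)
      exacts [⟨1, one_mem _, map_one π⟩, ⟨z, hz, rfl⟩, ⟨w, hw.1, rfl⟩, ⟨v, hv.1, rfl⟩]
  have hzi := self_mem_fib (P := P) hz
  have d1 : π z ≠ π w := fun h => hwz (hfibπ z hzi w hw h).symm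
  have d2 : π z ≠ π v := fun h => hvz (hfibπ z hzi v hv h).symm
  have d3 : π w ≠ π v := fun h => hvw (hfibπ w hw v hv h).symm
  have hcard : Nat.card (Q : Subgroup (G ⧸ center G)) = 4 := by
    show Nat.card ((Q : Subgroup (G ⧸ center G)) : Set (G ⧸ center G)) = 4
    rw [Nat.card_coe_set_eq, hQset, Set.ncard_insert_of_notMem (by
      simp [(hone z hzi).symm, (hone w hw).symm, (hone v hv).symm]),
      Set.ncard_insert_of_notMem (by simp [d1, d2]), Set.ncard_pair d3]
  have hord : ∀ v' ∈ fib P z, orderOf (π v') = orderOf (π z) := fun v' hv' => by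
    obtain ⟨g, hg⟩ := isConj_iff.1 hv'.2
    rw [← hg, map_mul, map_mul, map_inv, Invol.orderOf_conj_eq]
  have hsq : ∀ q : (Q : Subgroup (G ⧸ center G)), q * q = 1 := by
    obtain ⟨⟨i, hi⟩, hi2⟩ := exists_prime_orderOf_dvd_card' (G := (Q : Subgroup (G ⧸ center G))) 2
      (by rw [hcard]; norm_num)
    rw [Subgroup.orderOf_mk] at hi2
    have hi' : i ∈ ({1, π z, π w, π v} : Set (G ⧸ center G)) := hQset ▸ hi
    have hz2 : orderOf (π z) = 2 := by
      rcases hi' with rfl | rfl | rfl | rfl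
      · rw [orderOf_one] at hi2; exact absurd hi2 (by norm_num)
      · exact hi2
      · rw [← hord w hw]; exact hi2
      · rw [← hord v hv]; exact hi2
    rintro ⟨q, hq⟩
    have hq' : q ∈ ({1, π z, π w, π v} : Set (G ⧸ center G)) := hQset ▸ hq
    refine Subtype.ext ?_
    show q * q = 1
    rcases hq' with rfl | rfl | rfl | rfl
    · exact one_mul 1
    · exact Invol.inv_mul_self hz2
    · exact Invol.inv_mul_self ((hord w hw).trans hz2)
    · exact Invol.inv_mul_self ((hord v hv).trans hz2)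
  have hzQ : π z ∈ (Q : Subgroup (G ⧸ center G)) := by rw [hQ]; exact mem_map_of_mem _ hz
  refine ⟨⟨zpowers ⟨π z, hzQ⟩, inferInstance, ?_, fun q _ => hsq q⟩, ⟨π z, hzQ, fun q hq => ?_, π w,
    by rw [hQ]; exact mem_map_of_mem _ hw.1, π.map_isConj hw.2, d1.symm⟩, Or.inl hcard⟩
  · have h := card_mul_index (zpowers (⟨π z, hzQ⟩ : (Q : Subgroup (G ⧸ center G))))
    rw [hcard, Nat.card_zpowers, orderOf_eq_prime (p := 2) (by rw [pow_two]; exact hsq _)
      (fun h => hone z hzi (congrArg Subtype.val h))] at h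
    omega
  · rw [hQ] at hq
    obtain ⟨q', hq', rfl⟩ := hq
    exact (hzc q' hq').map π

/-- One central and two other conjugates: `P` is dihedral of order eight modulo the center. -/
theorem Ctx.facts_dihedral (x : Ctx P c) {z w : G} (hz : z ∈ (P : Subgroup G))
    (hzc : ∀ p ∈ (P : Subgroup G), Commute p z) (hzF : z ∉ center G) (hw : w ∈ fib P z)
    (hwc : ¬ ∀ p ∈ (P : Subgroup G), Commute p w) : QuotFacts P := by
  haveI : Fact (Nat.Prime 2) := ⟨Nat.prime_two⟩
  obtain ⟨h3, h2⟩ := x.three hz hzc hzF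
  obtain ⟨hwc', hwne⟩ := x.pair hw.1 hwc
  set π := QuotientGroup.mk' (center G)
  have hzw : z ≠ w := fun h => hwc (h ▸ hzc)
  have hzwc : z ≠ w * c := fun h => hwc fun p hp => by
    have := (hzc p hp).mul_right (x.ccomm p hp)
    rwa [h, mul_assoc, x.csq, mul_one] at this
  have hfib : ∀ v ∈ fib P z, v = z ∨ v = w ∨ v = w * c := by
    intro v hv
    by_contra hne
    push Not at hne
    have hsub : ({z, w, w * c, v} : Set G) ⊆ fib P z := by
      rintro y (rfl | rfl | rfl | rfl)
      exacts [self_mem_fib hz, hw, ⟨hwc'.1, hw.2.trans hwc'.2⟩, hv]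
    have := Set.ncard_le_ncard hsub
    rw [Set.ncard_insert_of_notMem (by simp [hzw, hzwc, hne.1.symm]),
      Set.ncard_insert_of_notMem (by simp [hwne.symm, hne.2.1.symm]), Set.ncard_pair hne.2.2.symm] at this
    omega
  have hfibF : ∀ q ∈ (P : Subgroup G), ∀ f ∈ center G, IsConj q (f * z) →
      q = f * z ∨ q = f * w ∨ q = f * (w * c) := by
    intro q hq f hf h
    have hqf : q ∈ fib P (f * z) := ⟨hq, h.symm⟩
    rw [x.fib_mul hf] at hqf
    obtain ⟨v, hv, rfl⟩ := hqf
    rcases hfib v hv with rfl | rfl | rfl <;> simp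
  -- the center of `P`
  have hZ : ∀ q ∈ (P : Subgroup G), (∀ p ∈ (P : Subgroup G), Commute p q) →
      q ∈ center G ∨ ∃ f ∈ center G, q = f * z := by
    intro q hq hqc
    by_cases hqF : q ∈ center G
    · exact Or.inl hqF
    right
    by_contra hne
    push Not at hne
    have h3q := (x.three hq hqc hqF).1
    have h2q := h2 q hq hqF fun f hf h => by
      rcases hfibF q hq f hf h with rfl | rfl | rfl
      · exact hne f hf rfl
      · refine hwc fun p hp => ?_
        have := (show Commute p f from mem_center_iff.1 hf p).inv_right.mul_right (hqc p hp)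
        rwa [inv_mul_cancel_left] at this
      · refine hwc fun p hp => ?_
        have := ((show Commute p f from mem_center_iff.1 hf p).inv_right.mul_right (hqc p hp)).mul_right
          (x.ccomm p hp)
        rwa [inv_mul_cancel_left, mul_assoc, x.csq, mul_one] at this
    omega
  -- the value of the commutators is not central
  obtain ⟨f0, hf0, hc0⟩ : ∃ f ∈ center G, c = f * z := by
    refine (hZ c x.cmem x.ccomm).resolve_left fun hcF => ?_
    set PP := P.mapSurjective (QuotientGroup.mk'_surjective (center G))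
    have hcomm : IsMulCommutative ((P : Subgroup G).map π) := ⟨⟨fun a b => by
      obtain ⟨a', ha', ea⟩ := a.2
      obtain ⟨b', hb', eb⟩ := b.2
      refine Subtype.ext ?_
      show (a : G ⧸ center G) * b = b * a
      rw [← ea, ← eb]
      have hc1 : π c = 1 := (QuotientGroup.eq_one_iff c).2 hcF
      rcases x.val b' hb' a' ha' with h | h <;> rw [mul_inv_eq_iff_eq_mul] at h <;>
        rw [← map_mul, ← map_mul, h]
      rw [map_mul, map_mul, hc1, mul_one, ← map_mul]⟩⟩
    haveI : IsMulCommutative (PP : Subgroup (G ⧸ center G)) := hcomm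
    obtain ⟨g, hg⟩ := isConj_iff.1 hw.2
    have hgπ : (π g⁻¹)⁻¹ * π z * π g⁻¹ = π w := by
      rw [map_inv, inv_inv, ← map_inv, ← map_mul, ← map_mul, hg]
    obtain ⟨n, hn, he⟩ := PP.conj_eq_normalizer_conj_of_mem (π z) (π g⁻¹) (mem_map_of_mem π hz)
      (by rw [hgπ]; exact mem_map_of_mem π hw.1)
    rw [hgπ] at he
    obtain ⟨n', rfl⟩ := QuotientGroup.mk'_surjective (center G) n
    have hn' : n' ∈ normalizer ((P : Subgroup G) : Set G) := by
      have key : ∀ q : G, q ∈ (P : Subgroup G) ↔ π q ∈ (P : Subgroup G).map π := fun q => by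
        refine ⟨mem_map_of_mem _, fun ⟨r, hr, hre⟩ => ?_⟩
        have := QuotientGroup.eq.1 hre
        rw [show q = r * (r⁻¹ * q) by group]
        exact mul_mem hr (x.center_le this)
      rw [mem_normalizer_iff]
      intro q
      rw [key, key (n' * q * n'⁻¹), map_mul, map_mul, map_inv]
      exact mem_normalizer_iff.1 hn (π q)
    rw [← map_inv, ← map_mul, ← map_mul] at he
    have hf : w * (n'⁻¹ * z * n')⁻¹ ∈ center G := (QuotientGroup.eq_one_iff (N := center G) _).1 (by
      show π (w * (n'⁻¹ * z * n')⁻¹) = 1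
      rw [map_mul, map_inv, he, mul_inv_cancel])
    refine hwc fun p hp => ?_
    have hzn : Commute p (n'⁻¹ * z * n') := by
      have h1 := hzc (n' * p * n'⁻¹) (conj_mem_of_normalizer P hn' hp)
      show p * (n'⁻¹ * z * n') = n'⁻¹ * z * n' * p
      calc p * (n'⁻¹ * z * n') = n'⁻¹ * (n' * p * n'⁻¹ * z) * n' := by group
        _ = n'⁻¹ * (z * (n' * p * n'⁻¹)) * n' := by rw [h1.eq]
        _ = _ := by group
    have := (show Commute p (w * (n'⁻¹ * z * n')⁻¹) from mem_center_iff.1 hf p).mul_right hzn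
    rwa [inv_mul_cancel_right] at this
  have hπc : π c = π z := by rw [hc0, map_mul, show π f0 = 1 from (QuotientGroup.eq_one_iff f0).2 hf0, one_mul]
  obtain ⟨g, hg⟩ := isConj_iff.1 hw.2.symm
  obtain ⟨h, hhz, hh⟩ := CyclicZ.exists_conj_centralizer P hz hzc hg
  -- squares
  have hsqz : z * z ∈ center G := by
    rcases hZ (z * z) (mul_mem hz hz) (fun p hp => (hzc p hp).mul_right (hzc p hp)) with h | ⟨f, hf, hfe⟩
    · exact h
    · exact absurd (mul_right_cancel hfe ▸ hf) hzF
  have hsqw : w * w ∈ center G := by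
    have h1 : h * (w * w) * h⁻¹ = z * z := by
      rw [← hhz]; group
    have h2' : w * w = h⁻¹ * (z * z) * h := by rw [← h1]; group
    rw [h2', mem_center_iff.1 hsqz h⁻¹, inv_mul_cancel_right]
    exact hsqz
  -- the centralizer of `w` in `P`
  have hM : ∀ y ∈ (P : Subgroup G), Commute y w →
      (∀ p ∈ (P : Subgroup G), Commute p y) ∨ ∀ p ∈ (P : Subgroup G), Commute p (w⁻¹ * y) := by
    intro y hy hyw
    by_contra hne
    push Not at hne
    obtain ⟨⟨p₁, hp₁, hy1⟩, p₂, hp₂, hy2⟩ := hne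
    have hwy : ¬ ∀ p ∈ (P : Subgroup G), Commute p (w * y) := fun hall => hy2 (by
      have h1 : Commute p₂ (w * w) := mem_center_iff.1 hsqw p₂
      have h2 := (h1.inv_right).mul_right (hall p₂ hp₂)
      rwa [show (w * w)⁻¹ * (w * y) = w⁻¹ * y by group] at h2)
    have hn2 : ∀ q ∈ (P : Subgroup G), (¬ ∀ p ∈ (P : Subgroup G), Commute p q) →
        (¬ ∀ p ∈ (P : Subgroup G), Commute p (w⁻¹ * q)) → (fib P q).ncard = 2 := by
      intro q hq hqc hqw
      refine h2 q hq (fun hh => hqc fun p _ => mem_center_iff.1 hh p) fun f hf hcon => ?_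
      have hfc : ∀ p ∈ (P : Subgroup G), Commute p f := fun p _ => mem_center_iff.1 hf p
      rcases hfibF q hq f hf hcon with rfl | rfl | rfl
      · exact hqc fun p hp => (hfc p hp).mul_right (hzc p hp)
      · exact hqw fun p hp => by
          rw [← mul_assoc, mem_center_iff.1 hf w⁻¹, inv_mul_cancel_right]; exact hfc p hp
      · exact hqw fun p hp => by
          rw [← mul_assoc w⁻¹, mem_center_iff.1 hf w⁻¹, mul_assoc, inv_mul_cancel_left]
          exact (hfc p hp).mul_right (x.ccomm p hp)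
    have himg : ∀ q ∈ (P : Subgroup G), (¬ ∀ p ∈ (P : Subgroup G), Commute p q) →
        (¬ ∀ p ∈ (P : Subgroup G), Commute p (w⁻¹ * q)) → Commute q w →
        h * q * h⁻¹ = q ∨ h * q * h⁻¹ = q * c := by
      intro q hq hqc hqw hqcw
      obtain ⟨hpr, hprne⟩ := x.pair hq hqc
      by_contra hne
      push Not at hne
      have hsub : ({q, q * c, h * q * h⁻¹} : Set G) ⊆ fib P q := by
        rintro e (rfl | rfl | rfl)
        exacts [self_mem_fib hq, hpr, ⟨hh q hq hqcw, isConj_iff.2 ⟨h, rfl⟩⟩]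
      have := Set.ncard_le_ncard hsub
      rw [hn2 q hq hqc hqw, Set.ncard_insert_of_notMem (by simp [hprne.symm, hne.1.symm]),
        Set.ncard_pair hne.2.symm] at this
      omega
    have i1 := himg y hy (fun hall => hy1 (hall p₁ hp₁)) (fun hall => hy2 (hall p₂ hp₂)) hyw
    have i2 := himg (w * y) (mul_mem hw.1 hy) hwy
      (fun hall => hy1 (by have := hall p₁ hp₁; rwa [inv_mul_cancel_left] at this))
      ((Commute.refl w).mul_left hyw)
    have hwy' : h * (w * y) * h⁻¹ = z * (h * y * h⁻¹) := by rw [← hhz]; group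
    refine hwc fun p hp => ?_
    have hzc' := hzc p hp
    have hcc := x.ccomm p hp
    rcases i1 with e1 | e1 <;> rcases i2 with e2 | e2 <;> rw [hwy', e1] at e2
    · rw [← mul_right_cancel e2]; exact hzc'
    · have hwe : w = z * c := by
        have e3 : z * y = w * c * y := by
          rw [e2, mul_assoc w y c, (x.ccomm y hy).eq, ← mul_assoc]
        rw [mul_right_cancel e3, mul_assoc, x.csq, mul_one]
      rw [hwe]; exact hzc'.mul_right hcc
    · have hwe : w = z * c := by
        have e3 : z * c * y = w * y := by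
          rw [← e2, mul_assoc z, ← (x.ccomm y hy).eq]
        exact (mul_right_cancel e3).symm
      rw [hwe]; exact hzc'.mul_right hcc
    · have hwe : w = z := by
        have e3 : z * (y * c) = w * (y * c) := by rw [e2, mul_assoc]
        exact (mul_right_cancel e3).symm
      rw [hwe]; exact hzc'
  -- coordinates
  intro Q hQ
  obtain ⟨y₀, hy₀, hy₀w⟩ : ∃ y ∈ (P : Subgroup G), ¬ Commute y w := by
    push Not at hwc; exact hwc
  have hwy₀ : y₀ * w * y₀⁻¹ = w * c :=
    (x.val w hw.1 y₀ hy₀).resolve_left fun e => hy₀w (mul_inv_eq_iff_eq_mul.1 e)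
  have hzz : π z * π z = 1 := by rw [← map_mul]; exact (QuotientGroup.eq_one_iff _).2 hsqz
  have hww : π w * π w = 1 := by rw [← map_mul]; exact (QuotientGroup.eq_one_iff _).2 hsqw
  have hπctr : ∀ q ∈ (P : Subgroup G), (∀ p ∈ (P : Subgroup G), Commute p q) → π q = 1 ∨ π q = π z := by
    intro q hq hqc
    rcases hZ q hq hqc with h | ⟨f, hf, rfl⟩
    · exact Or.inl ((QuotientGroup.eq_one_iff q).2 h)
    · exact Or.inr (by rw [map_mul, show π f = 1 from (QuotientGroup.eq_one_iff f).2 hf, one_mul])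
  have hπcomm : ∀ q ∈ (P : Subgroup G), Commute (π q) (π z) := fun q hq => (hzc q hq).map π
  have hπz1 : π z ≠ 1 := fun e => hzF ((QuotientGroup.eq_one_iff z).1 e)
  have hπw1 : π w ≠ 1 := fun e => hwc fun p _ => mem_center_iff.1 ((QuotientGroup.eq_one_iff w).1 e) p
  have hπwz : π w ≠ π z := fun e => by
    refine hwc fun p hp => ?_
    have hf : z⁻¹ * w ∈ center G := QuotientGroup.eq.1 e.symm
    have := (hzc p hp).mul_right (show Commute p (z⁻¹ * w) from mem_center_iff.1 hf p)
    rwa [mul_inv_cancel_left] at this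
  -- an element of order four modulo the center
  obtain ⟨r, hr, hrw, hr2⟩ : ∃ r ∈ (P : Subgroup G), ¬ Commute r w ∧ π r * π r = π z := by
    have hy2c : ∀ p ∈ (P : Subgroup G), Commute p (y₀ * y₀) := by
      intro p hp
      rcases x.val y₀ hy₀ p hp with e | e
      · have hc' : Commute p y₀ := mul_inv_eq_iff_eq_mul.1 e
        exact hc'.mul_right hc'
      · rw [Commute, SemiconjBy, ← mul_inv_eq_iff_eq_mul]
        rw [show p * (y₀ * y₀) * p⁻¹ = (p * y₀ * p⁻¹) * (p * y₀ * p⁻¹) by group, e,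
          (x.ccomm y₀ hy₀).symm.mul_mul_mul_comm, x.csq, mul_one]
    rcases hπctr (y₀ * y₀) (mul_mem hy₀ hy₀) hy2c with e | e
    swap
    · exact ⟨y₀, hy₀, hy₀w, by rw [← map_mul]; exact e⟩
    refine ⟨w * y₀, mul_mem hw.1 hy₀, fun hcm => hy₀w ?_, ?_⟩
    · have h5 := ((Commute.refl w).inv_left).mul_left hcm
      rwa [inv_mul_cancel_left] at h5
    rw [map_mul] at e
    have h4 : π y₀ * π w = π w * π z * π y₀ := by
      rw [← mul_inv_eq_iff_eq_mul, ← map_inv, ← map_mul, ← map_mul, hwy₀, map_mul, hπc]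
    calc π (w * y₀) * π (w * y₀) = π w * (π y₀ * π w) * π y₀ := by rw [map_mul]; group
      _ = π w * π w * π z * (π y₀ * π y₀) := by rw [h4]; group
      _ = π z := by rw [hww, one_mul, e, mul_one]
  have hwr : r * w * r⁻¹ = w * c := (x.val w hw.1 r hr).resolve_left fun e => hrw (mul_inv_eq_iff_eq_mul.1 e)
  have hrel : π r * π w = π w * π z * π r := by
    rw [← mul_inv_eq_iff_eq_mul, ← map_inv, ← map_mul, ← map_mul, hwr, map_mul, hπc]
  have hdec : ∀ q ∈ (P : Subgroup G), ∃ i j : ℕ, π q = π r ^ i * π w ^ j := by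
    intro q hq
    have key : ∀ y ∈ (P : Subgroup G), Commute y w → ∃ i j : ℕ, π y = π r ^ i * π w ^ j := by
      intro y hy hyw
      rcases hM y hy hyw with hc' | hc'
      · rcases hπctr y hy hc' with e | e
        · exact ⟨0, 0, by simp [e]⟩
        · exact ⟨2, 0, by rw [e, pow_zero, mul_one, pow_two, hr2]⟩
      · have hmem : w⁻¹ * y ∈ (P : Subgroup G) := mul_mem (inv_mem hw.1) hy
        rcases hπctr _ hmem hc' with e | e <;> rw [map_mul, map_inv, inv_mul_eq_iff_eq_mul] at e
        · exact ⟨0, 1, by simp [e]⟩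
        · refine ⟨2, 1, ?_⟩
          rw [e, pow_one, pow_two, hr2, (hπcomm w hw.1).eq]
    by_cases hqw : Commute q w
    · exact key q hq hqw
    · have hwq : q * w * q⁻¹ = w * c := (x.val w hw.1 q hq).resolve_left fun e => hqw (mul_inv_eq_iff_eq_mul.1 e)
      have hcm : Commute (r⁻¹ * q) w := by
        refine mul_inv_eq_iff_eq_mul.1 ?_
        rw [show r⁻¹ * q * w * (r⁻¹ * q)⁻¹ = r⁻¹ * (q * w * q⁻¹) * r by group, hwq, ← hwr]
        group
      obtain ⟨i, j, e⟩ := key _ (mul_mem (inv_mem hr) hq) hcm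
      exact ⟨1 + i, j, by rw [pow_add, pow_one, mul_assoc, ← e, map_mul, map_inv, mul_inv_cancel_left]⟩
  have hr4 : orderOf (π r) = 4 := by
    refine orderOf_eq_prime_pow (p := 2) (n := 1) ?_ ?_
    · rw [pow_one, pow_two, hr2]; exact hπz1
    · rw [show (2 : ℕ) ^ (1 + 1) = 2 * 2 from rfl, pow_mul, pow_two (π r), hr2, pow_two, hzz]
  have hrQ : π r ∈ (Q : Subgroup (G ⧸ center G)) := by rw [hQ]; exact mem_map_of_mem _ hr
  have hwQ : π w ∈ (Q : Subgroup (G ⧸ center G)) := by rw [hQ]; exact mem_map_of_mem _ hw.1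
  have hw2 : orderOf (π w) = 2 := Invol.orderOf_eq_two_of hπw1 hww
  have hnotmem : π w ∉ zpowers (π r) := by
    intro hmem
    obtain ⟨i, hi⟩ := (isOfFinOrder_of_finite (π r)).mem_powers_iff_mem_zpowers.2 hmem
    have hcc : Commute (π r) (π w) := hi ▸ Commute.self_pow _ _
    rw [hcc.eq, mul_assoc, mul_right_inj] at hrel
    exact hπz1 (mul_eq_right.1 hrel.symm)
  set R : Subgroup (Q : Subgroup (G ⧸ center G)) := zpowers ⟨π r, hrQ⟩
  have hcR : Nat.card R = 4 := by rw [Nat.card_zpowers, Subgroup.orderOf_mk, hr4]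
  have hmemR : ∀ q : (Q : Subgroup (G ⧸ center G)), q ∈ R ↔ (q : G ⧸ center G) ∈ zpowers (π r) := fun q => by
    simp only [R, mem_zpowers_iff]
    exact exists_congr fun k => ⟨fun e => by rw [← e, SubgroupClass.coe_zpow],
      fun e => Subtype.ext (by rw [SubgroupClass.coe_zpow]; exact e)⟩
  have hout : ∀ q : (Q : Subgroup (G ⧸ center G)), q ∉ R → ∃ i : ℕ, (q : G ⧸ center G) = π r ^ i * π w := by
    intro q hq
    have h' : (q : G ⧸ center G) ∈ (P : Subgroup G).map π := hQ ▸ q.2
    obtain ⟨p, hp, hpe⟩ := h'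
    obtain ⟨i, j, e⟩ := hdec p hp
    rw [hpe] at e
    rcases Nat.even_or_odd j with ⟨j', rfl⟩ | ⟨j', rfl⟩
    · refine absurd ((hmemR q).2 ?_) hq
      rw [e, ← two_mul, pow_mul, pow_two, hww, one_pow, mul_one]
      exact pow_mem (mem_zpowers _) i
    · exact ⟨i, by rw [e, pow_succ, pow_mul, pow_two, hww, one_pow, one_mul]⟩
  have hsq : ∀ i : ℕ, π r ^ i * π w * (π r ^ i * π w) = 1 := by
    intro i
    induction i with
    | zero => simp [hww]
    | succ i ih =>
      have hwrw : π w * π r = π r * π w * π z := by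
        calc π w * π r = π w * π r * (π z * π z) := by rw [hzz, mul_one]
          _ = π w * (π r * π z) * π z := by group
          _ = π w * π z * π r * π z := by rw [(hπcomm r hr).eq]; group
          _ = π r * π w * π z := by rw [← hrel]
      calc π r ^ (i + 1) * π w * (π r ^ (i + 1) * π w)
          = π r ^ i * (π r * π w) * π r * (π r ^ i * π w) := by
            rw [show π r ^ (i + 1) = π r ^ i * π r from pow_succ _ _]
            rw [show π r ^ i * π r = π r * π r ^ i from (Commute.pow_self _ _).eq]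
            group
        _ = π r ^ i * (π w * π z * (π r * π r)) * (π r ^ i * π w) := by rw [hrel]; group
        _ = π r ^ i * π w * (π r ^ i * π w) := by rw [hr2, mul_assoc (π w), hzz, mul_one]
        _ = 1 := ih
  have hidx : R.index = 2 := by
    rw [index_eq_two_iff]
    refine ⟨⟨π w, hwQ⟩, fun b => ?_⟩
    have hwR : (⟨π w, hwQ⟩ : (Q : Subgroup (G ⧸ center G))) ∉ R := fun hm => hnotmem ((hmemR _).1 hm)
    by_cases hb : b ∈ R
    · exact Or.inr ⟨hb, fun hm => hwR ((mul_mem_cancel_left hb).1 hm)⟩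
    · refine Or.inl ⟨(hmemR _).2 ?_, hb⟩
      obtain ⟨i, e⟩ := hout b hb
      show (b : G ⧸ center G) * π w ∈ zpowers (π r)
      rw [e, mul_assoc, hww, mul_one]
      exact pow_mem (mem_zpowers _) i
  have hcard : Nat.card (Q : Subgroup (G ⧸ center G)) = 8 := by rw [← card_mul_index R, hcR, hidx]
  refine ⟨⟨R, inferInstance, hidx.le, fun q hq => ?_⟩, ⟨π z, by rw [hQ]; exact mem_map_of_mem _ hz,
    fun q hq => ?_, π w, hwQ, π.map_isConj hw.2, hπwz⟩, Or.inr ⟨hcard, ?_⟩⟩
  · obtain ⟨i, e⟩ := hout q hq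
    exact Subtype.ext (by show (q : G ⧸ center G) * q = 1; rw [e]; exact hsq i)
  · rw [hQ] at hq
    obtain ⟨q', hq', rfl⟩ := hq
    exact (hzc q' hq').map π
  -- `r w` and `w` are not conjugate
  refine ⟨π w, π (r * w), hwQ, by rw [hQ]; exact mem_map_of_mem _ (mul_mem hr hw.1), hw2,
    Invol.orderOf_eq_two_of ?_ (by rw [map_mul]; simpa using hsq 1), fun hc => ?_⟩
  · intro e
    rw [map_mul] at e
    exact hnotmem (eq_inv_of_mul_eq_one_right e ▸ inv_mem (mem_zpowers _))
  · obtain ⟨k, hk⟩ := isConj_iff.1 hc.symm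
    obtain ⟨k, rfl⟩ := QuotientGroup.mk'_surjective (center G) k
    rw [← map_inv, ← map_mul, ← map_mul] at hk
    set f := w⁻¹ * (k * (r * w) * k⁻¹) with hfdef
    have hf : f ∈ center G := QuotientGroup.eq.1 hk.symm
    have hconj : IsConj (r * w) (f * z) := by
      refine (isConj_iff.2 ⟨k, ?_⟩ : IsConj (r * w) (f * w)).trans (isConj_iff.2 ⟨h, ?_⟩)
      · rw [← mem_center_iff.1 hf w, hfdef, mul_inv_cancel_left]
      · rw [← mul_assoc h f, mem_center_iff.1 hf h]
        simp only [mul_assoc] at hhz ⊢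
        rw [hhz]
    have hw' : ∀ v, r * w = f * v → π r * π w = π v := fun v e => by
      rw [← map_mul, e, map_mul, show π f = 1 from (QuotientGroup.eq_one_iff f).2 hf, one_mul]
    rcases hfibF (r * w) (mul_mem hr hw.1) f hf hconj with e | e | e
    · have e' := hw' _ e
      refine hnotmem ?_
      rw [show π w = (π r)⁻¹ * π z by rw [← e', inv_mul_cancel_left], ← hr2, inv_mul_cancel_left]
      exact mem_zpowers _
    · have e' := hw' _ e
      have : orderOf (π r) = 1 := orderOf_eq_one_iff.2 (mul_eq_right.1 e')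
      omega
    · have e' := hw' _ e
      rw [map_mul, hπc, (hπcomm w hw.1).eq] at e'
      have e'' := mul_right_cancel e'
      rw [← e''] at hzz
      have : orderOf (π r) ∣ 2 := orderOf_dvd_of_pow_eq_one (by rw [pow_two]; exact hzz)
      rw [hr4] at this
      norm_num at this

/-- A big class exists outside the center of `P`. -/
theorem Ctx.exists_central (x : Ctx P c) :
    ∃ z ∈ (P : Subgroup G), (∀ p ∈ (P : Subgroup G), Commute p z) ∧ z ∉ center G := by
  haveI : Fact (Nat.Prime 2) := ⟨Nat.prime_two⟩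
  by_contra hne
  push Not at hne
  have hcF : c ∈ center G := hne c x.cmem x.ccomm
  obtain ⟨p₀, hp₀, hp₀F, hbig⟩ := x.exists_big
  set π := QuotientGroup.mk' (center G)
  have hπc : π c = 1 := (QuotientGroup.eq_one_iff c).2 hcF
  set PP := P.mapSurjective (QuotientGroup.mk'_surjective (center G))
  have hpull : ∀ q : G, π q ∈ (P : Subgroup G).map π → q ∈ (P : Subgroup G) := fun q ⟨r, hr, hre⟩ => by
    rw [show q = r * (r⁻¹ * q) by group]
    exact mul_mem hr (x.center_le (QuotientGroup.eq.1 hre))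
  -- some element of odd order moves a coset
  obtain ⟨n, hn, hno, p, hp, hnp⟩ : ∃ n ∈ normalizer ((P : Subgroup G) : Set G), Odd (orderOf n) ∧
      ∃ p ∈ (P : Subgroup G), π (n * p * n⁻¹) ≠ π p := by
    by_contra hfix
    push Not at hfix
    have hNC : normalizer ((PP : Subgroup (G ⧸ center G)) : Set (G ⧸ center G)) ≤
        centralizer (PP : Set (G ⧸ center G)) := by
      intro n hn
      obtain ⟨n, rfl⟩ := QuotientGroup.mk'_surjective (center G) n
      have hn' : n ∈ normalizer ((P : Subgroup G) : Set G) := by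
        rw [mem_normalizer_iff]
        intro q
        have h := mem_normalizer_iff.1 hn (π q)
        rw [← map_inv, ← map_mul, ← map_mul] at h
        exact ⟨fun hq => hpull _ (h.1 (mem_map_of_mem π hq)), fun hq => hpull _ (h.2 (mem_map_of_mem π hq))⟩
      rw [mem_centralizer_iff]
      rintro _ ⟨q, hq, rfl⟩
      obtain ⟨k, m, hm, hkm⟩ := Nat.exists_eq_two_pow_mul_odd (orderOf_pos n).ne'
      have h1 : Commute (π (n ^ 2 ^ k)) (π q) := by
        refine mul_inv_eq_iff_eq_mul.1 ?_
        rw [← map_inv, ← map_mul, ← map_mul]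
        refine hfix _ (pow_mem hn' _) ?_ q hq
        rw [orderOf_pow_of_dvd (pow_ne_zero _ two_ne_zero) (hkm ▸ dvd_mul_right _ _), hkm,
          Nat.mul_div_cancel_left _ (pow_pos two_pos k)]
        exact hm
      obtain ⟨m', hm', hmP⟩ := exists_odd_pow_mem P hn'
      have h2 : Commute (π (n ^ m')) (π q) := by
        rcases x.val q hq _ hmP with e | e <;> refine mul_inv_eq_iff_eq_mul.1 ?_ <;>
          rw [← map_inv, ← map_mul, ← map_mul, e]
        rw [map_mul, hπc, mul_one]
      have hc : Commute (π n) (π q) := by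
        have hg := Nat.gcd_eq_gcd_ab (2 ^ k) m'
        rw [((Nat.coprime_two_left.2 hm').pow_left k : Nat.gcd (2 ^ k) m' = 1), Nat.cast_one] at hg
        rw [← zpow_one (π n), hg, zpow_add, _root_.zpow_mul, _root_.zpow_mul, zpow_natCast, zpow_natCast,
          ← map_pow, ← map_pow]
        exact (h1.zpow_left _).mul_left (h2.zpow_left _)
      exact hc.eq.symm
    have hcompl := MonoidHom.ker_transferSylow_isComplement' PP hNC
    have hodd : Odd (Nat.card (MonoidHom.transferSylow PP hNC).ker) := by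
      rw [← hcompl.index_eq_card, ← Nat.not_even_iff_odd, even_iff_two_dvd]
      exact PP.not_dvd_index
    have hbot : (MonoidHom.transferSylow PP hNC).ker = ⊥ := le_bot_iff.1
      ((oddCore_quotient_eq_bot x.core (center G) le_rfl (P.2.to_le x.center_le)) ▸
        ZStar.le_oddCore (MonoidHom.normal_ker _) hodd)
    rw [hbot, isComplement'_bot_left] at hcompl
    have hall : ∀ g : G, g ∈ (P : Subgroup G) := fun g =>
      hpull g (hcompl ▸ mem_top (π g) : π g ∈ (PP : Subgroup (G ⧸ center G)))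
    have hle : fib P p₀ ⊆ {p₀, p₀ * c} := by
      rintro q ⟨-, hq⟩
      obtain ⟨g, rfl⟩ := isConj_iff.1 hq
      rcases x.val p₀ hp₀ g (hall g) with e | e <;> rw [e] <;> simp
    have := (Set.ncard_le_ncard hle).trans ((Set.ncard_insert_le _ _).trans (by rw [Set.ncard_singleton]))
    omega
  set y := n * p * n⁻¹ with hy
  set v := n * y * n⁻¹ with hv
  have hyP := conj_mem_of_normalizer P hn hp
  have hvP := conj_mem_of_normalizer P hn hyP
  have hyv : π y ≠ π v := fun e => hnp (by
    rw [hv, hy, map_mul π (n * (n * p * n⁻¹)) n⁻¹, map_mul π n (n * p * n⁻¹)] at e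
    rw [map_mul π (n * p) n⁻¹, map_mul π n p]
    rw [map_mul π (n * p) n⁻¹, map_mul π n p] at e
    exact (mul_left_cancel (mul_right_cancel e)).symm)
  have hpv : π p ≠ π v := fun e => by
    obtain ⟨j, hj⟩ := hno
    refine hnp ?_
    rw [hy, map_mul, map_mul, map_inv]
    refine fix_of_odd_power (m := 2 * j + 1) ⟨j, rfl⟩ ?_ ?_
    · conv_rhs => rw [e, hv, hy]
      simp only [map_mul, map_inv]
    · rw [← map_pow, ← hj, pow_orderOf_eq_one, map_one]; exact Commute.one_left _
  have hp1 : π p ≠ 1 := fun e => hnp (by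
    rw [hy, map_mul, map_mul, map_inv, e, mul_one, mul_inv_cancel])
  have hpF : p ∉ center G := fun e => hp1 ((QuotientGroup.eq_one_iff p).2 e)
  -- representatives of the classes of the translates
  haveI := Fintype.ofFinite G
  set R : Finset (ConjClasses G) := (center G : Set G).toFinite.toFinset.image fun f => ConjClasses.mk (f * p)
  have hrep : ∀ C ∈ R, ∃ f ∈ center G, ConjClasses.mk (f * p) = C := fun C hC => by
    obtain ⟨f, hf, rfl⟩ := Finset.mem_image.1 hC
    exact ⟨f, (Set.Finite.mem_toFinset _).1 hf, rfl⟩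
  choose fR hfR hfRe using hrep
  let T : Finset G := R.attach.image fun C => fR C.1 C.2 * p
  have hT : ∀ q ∈ T, ∃ C : ConjClasses G, ∃ hC : C ∈ R, q = fR C hC * p := fun q hq => by
    obtain ⟨⟨C, hC⟩, -, rfl⟩ := Finset.mem_image.1 hq
    exact ⟨C, hC, rfl⟩
  have hTP : ∀ q ∈ T, q ∈ (P : Subgroup G) ∧ q ∉ center G := fun q hq => by
    obtain ⟨C, hC, rfl⟩ := hT q hq
    exact ⟨mul_mem (x.center_le (hfR C hC)) hp, fun h => hpF ((mul_mem_cancel_left (hfR C hC)).1 h)⟩
  have hTc : ∀ q ∈ T, ∀ q' ∈ T, IsConj q q' → q = q' := fun q hq q' hq' h => by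
    obtain ⟨C, hC, rfl⟩ := hT q hq
    obtain ⟨C', hC', rfl⟩ := hT q' hq'
    have : C = C' := by rw [← hfRe C hC, ← hfRe C' hC']; exact ConjClasses.mk_eq_mk_iff_isConj.2 h
    subst this
    rfl
  have hncard : ∀ q ∈ T, (fib P q).ncard = (fib P p).ncard := fun q hq => by
    obtain ⟨C, hC, rfl⟩ := hT q hq
    exact x.ncard_mul (hfR C hC) p
  have hex := x.excess_le T hTP hTc
  rw [Finset.sum_congr rfl (g := fun _ => (fib P p).ncard - 2) (fun q hq => by rw [hncard q hq]),
    Finset.sum_const, smul_eq_mul] at hex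
  have hfp : ∀ e ∈ ({p, y, v} : Set G), IsConj p e := by
    rintro e (rfl | rfl | rfl)
    · exact IsConj.refl _
    · exact isConj_iff.2 ⟨n, rfl⟩
    · exact (isConj_iff.2 ⟨n, rfl⟩ : IsConj p y).trans (isConj_iff.2 ⟨n, rfl⟩)
  have heP : ∀ e ∈ ({p, y, v} : Set G), e ∈ (P : Subgroup G) := by
    rintro e (rfl | rfl | rfl)
    exacts [hp, hyP, hvP]
  have hsix : 6 ≤ (fib P p).ncard := by
    have hpair : ∀ e ∈ ({p, y, v} : Set G), e * c ∈ fib P p ∧ e * c ≠ e := fun e he => by
      have hnc : ¬ ∀ q ∈ (P : Subgroup G), Commute q e := fun hall => by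
        have hec := hne e (heP e he) hall
        obtain ⟨g, hg⟩ := isConj_iff.1 (hfp e he).symm
        rw [mem_center_iff.1 hec g, mul_inv_cancel_right] at hg
        exact hpF (hg ▸ hec)
      obtain ⟨h1, h2⟩ := x.pair (heP e he) hnc
      exact ⟨⟨h1.1, (hfp e he).trans h1.2⟩, h2⟩
    have hsub : ({p, p * c, y, y * c, v, v * c} : Set G) ⊆ fib P p := by
      rintro e (rfl | rfl | rfl | rfl | rfl | rfl)
      · exact self_mem_fib hp
      · exact (hpair p (Or.inl rfl)).1
      · exact ⟨hyP, hfp y (Or.inr (Or.inl rfl))⟩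
      · exact (hpair y (Or.inr (Or.inl rfl))).1
      · exact ⟨hvP, hfp v (Or.inr (Or.inr rfl))⟩
      · exact (hpair v (Or.inr (Or.inr rfl))).1
    refine le_trans ?_ (Set.ncard_le_ncard hsub)
    have hne' : ∀ e e' : G, π e ≠ π e' → e ≠ e' ∧ e ≠ e' * c ∧ e * c ≠ e' ∧ e * c ≠ e' * c := fun e e' hd =>
      ⟨fun h => hd (h ▸ rfl), fun h => hd (by rw [h, map_mul, hπc, mul_one]),
        fun h => hd (by rw [← h, map_mul, hπc, mul_one]), fun h => hd (mul_right_cancel h ▸ rfl)⟩
    obtain ⟨a1, a2, a3, a4⟩ := hne' p y hnp.symm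
    obtain ⟨b1, b2, b3, b4⟩ := hne' p v hpv
    obtain ⟨c1, c2, c3, c4⟩ := hne' y v hyv
    rw [Set.ncard_insert_of_notMem (by simp [(hpair p (Or.inl rfl)).2.symm, a1, a2, b1, b2]),
      Set.ncard_insert_of_notMem (by simp [a3, a4, b3, b4]),
      Set.ncard_insert_of_notMem (by simp [(hpair y (Or.inr (Or.inl rfl))).2.symm, c1, c2]),
      Set.ncard_insert_of_notMem (by simp [c3, c4]),
      Set.ncard_pair (hpair v (Or.inr (Or.inr rfl))).2.symm]
  -- the translates of three cosets fit into the classes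
  have hcover : 3 * Nat.card (center G) ≤ T.card * (fib P p).ncard := by
    let U : Finset G := T.biUnion fun q => (fib P q).toFinite.toFinset
    have hU : U.card ≤ T.card * (fib P p).ncard := by
      refine Finset.card_biUnion_le_card_mul _ _ _ fun q hq => ?_
      rw [← Set.ncard_eq_toFinset_card _ (fib P q).toFinite, hncard q hq]
    refine le_trans ?_ hU
    let e : Fin 3 → G := ![p, y, v]
    have he : ∀ i, e i ∈ ({p, y, v} : Set G) := fun i => by fin_cases i <;> simp [e]
    have hinj : ∀ i j, π (e i) = π (e j) → i = j := by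
      intro i j h
      fin_cases i <;> fin_cases j <;> simp [e, hnp, hnp.symm, hpv, hpv.symm, hyv, hyv.symm] at h ⊢
    have hmemU : ∀ f ∈ center G, ∀ i, f * e i ∈ U := by
      intro f hf i
      have hC : ConjClasses.mk (f * p) ∈ R :=
        Finset.mem_image.2 ⟨f, (Set.Finite.mem_toFinset _).2 hf, rfl⟩
      refine Finset.mem_biUnion.2 ⟨fR _ hC * p, Finset.mem_image.2 ⟨⟨_, hC⟩, Finset.mem_attach _ _, rfl⟩,
        (Set.Finite.mem_toFinset _).2 ⟨mul_mem (x.center_le hf) (heP _ (he i)), ?_⟩⟩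
      refine (ConjClasses.mk_eq_mk_iff_isConj.1 (hfRe _ hC)).trans ?_
      obtain ⟨g, hg⟩ := isConj_iff.1 (hfp _ (he i))
      exact isConj_iff.2 ⟨g, by rw [← mul_assoc g f, mem_center_iff.1 hf g, ← hg]; group⟩
    have h3 := Nat.card_le_card_of_injective
      (fun t : Fin 3 × center G => (⟨(t.2 : G) * e t.1, hmemU t.2 t.2.2 t.1⟩ : U)) (by
        rintro ⟨i, f⟩ ⟨j, f'⟩ h
        have h' : (f : G) * e i = (f' : G) * e j := congrArg Subtype.val h
        have hi : i = j := hinj i j (by
          have := congrArg π h'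
          rwa [map_mul, map_mul, show π (f : G) = 1 from (QuotientGroup.eq_one_iff _).2 f.2,
            show π (f' : G) = 1 from (QuotientGroup.eq_one_iff _).2 f'.2, one_mul, one_mul] at this)
        subst hi
        exact Prod.ext rfl (Subtype.ext (mul_right_cancel h')))
    rwa [Nat.card_prod, Nat.card_fin, Nat.card_eq_finsetCard] at h3
  have hpos : 0 < Nat.card (center G) := Nat.card_pos
  obtain ⟨e, he⟩ : ∃ e, (fib P p).ncard = e + 6 := ⟨(fib P p).ncard - 6, by omega⟩
  rw [he] at hcover hex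
  simp only [show e + 6 - 2 = e + 4 by omega] at hex
  nlinarith

/-- The quotient by the center. -/
theorem Ctx.quotFacts (x : Ctx P c) : QuotFacts P := by
  obtain ⟨z, hz, hzc, hzF⟩ := x.exists_central
  obtain ⟨w, hw, hwz⟩ := Set.exists_ne_of_one_lt_ncard
    (show 1 < (fib P z).ncard by rw [(x.three hz hzc hzF).1]; norm_num) z
  by_cases hwc : ∀ p ∈ (P : Subgroup G), Commute p w
  · exact x.facts_abelian hz hzc hzF hw hwc hwz
  · exact x.facts_dihedral hz hzc hzF hw hwc

end Cfsg.Lib.TwoClasses
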