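import Cfsg.Agent.Lib.ZStar.Main
import Cfsg.Agent.Lib.Invol.SylowTools
import Cfsg.Agent.Lib.Invol.Isolated
import Mathlib.GroupTheory.SchurZassenhaus

/-!
# Isolated 2-elements

Central 2-subgroups keep the odd core trivial in the quotient, and with trivial odd core a 2-element
which is conjugate to no other element of a Sylow 2-subgroup containing it is central.
-/

set_option autoImplicit false
set_option linter.style.haveILetI false

namespace Cfsg.Lib.TwoClasses

open Subgroup

universe u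

/-- The odd core of the quotient by a central 2-subgroup is trivial. -/
theorem oddCore_quotient_eq_bot {G : Type u} [Group G] [Finite G] (hO : Cfsg.oddCore G = ⊥) (Z : Subgroup G)
    [Z.Normal] (hZ : Z ≤ center G) (h2 : IsPGroup 2 Z) : Cfsg.oddCore (G ⧸ Z) = ⊥ := by
  haveI : Fact (Nat.Prime 2) := ⟨Nat.prime_two⟩
  set M := (Cfsg.oddCore (G ⧸ Z)).comap (QuotientGroup.mk' Z)
  have hZM : Z ≤ M := fun z hz => by
    show (QuotientGroup.mk z : G ⧸ Z) ∈ Cfsg.oddCore (G ⧸ Z)
    rw [(QuotientGroup.eq_one_iff z).2 hz]; exact one_mem _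
  set A := Z.subgroupOf M
  obtain ⟨k, hk⟩ := h2.exists_card_eq
  have hAc : Nat.card A = 2 ^ k := by rw [Nat.card_congr (subgroupOfEquivOfLe hZM).toEquiv, hk]
  have hAi : Odd A.index := by
    let φ : M →* G ⧸ Z := (QuotientGroup.mk' Z).comp M.subtype
    have hker : φ.ker = A := by rw [← MonoidHom.comap_ker, QuotientGroup.ker_mk']; rfl
    have hr : φ.range = Cfsg.oddCore (G ⧸ Z) := by
      rw [MonoidHom.range_comp, range_subtype]
      exact map_comap_eq_self_of_surjective (QuotientGroup.mk'_surjective Z) _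
    rw [← hker, index_ker, hr]; exact ZStar.odd_card_oddCore
  obtain ⟨H, hH⟩ := exists_right_complement'_of_coprime (N := A)
    (by rw [hAc]; exact (Nat.coprime_two_left.2 hAi).pow_left k)
  have hHc : Odd (Nat.card H) := by rwa [← hH.symm.index_eq_card]
  -- the odd elements of `M` are the elements of `H`
  have hmem : ∀ m : M, m ∈ H ↔ Odd (orderOf m) := by
    intro m
    refine ⟨fun hm => hHc.of_dvd_nat (by rw [← Subgroup.orderOf_mk m hm]; exact orderOf_dvd_natCard _), fun hm => ?_⟩
    obtain ⟨⟨z, h⟩, hzh⟩ := hH.2 m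
    simp only at hzh
    have hc : Commute (z : M) h := Subtype.ext ((mem_center_iff.1 (hZ z.2) (h : M)).symm)
    have h1 : ((z : M) : M) ^ Nat.card H = m ^ Nat.card H := by
      have hp : (h : M) ^ Nat.card H = 1 := congrArg Subtype.val (pow_card_eq_one' (x := (⟨h, h.2⟩ : H)))
      rw [← hzh, hc.mul_pow, hp, mul_one]
    have hz : (z : M) = 1 := by
      have hzo : orderOf (z : M) ∣ 2 ^ k := by
        rw [← hAc, ← Subgroup.orderOf_mk (z : M) z.2]; exact orderOf_dvd_natCard _
      have hzm : orderOf (z : M) ∣ orderOf m * Nat.card H := by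
        refine orderOf_dvd_of_pow_eq_one ?_
        rw [mul_comm, pow_mul, h1, ← pow_mul, mul_comm, pow_mul, pow_orderOf_eq_one, one_pow]
      exact orderOf_eq_one_iff.1 (Nat.eq_one_of_dvd_coprimes
        ((Nat.coprime_two_left.2 (hm.mul hHc)).pow_left k) hzo hzm)
    rw [← hzh, hz, one_mul]
    exact h.2
  set W := H.map M.subtype
  have hWn : W.Normal := ⟨fun w hw g => by
    obtain ⟨m, hm, rfl⟩ := hw
    have hgm : g * (m : G) * g⁻¹ ∈ M := (inferInstance : M.Normal).conj_mem _ m.2 g
    refine ⟨⟨_, hgm⟩, (hmem _).2 ?_, rfl⟩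
    rw [Subgroup.orderOf_mk, Invol.orderOf_conj_eq, Subgroup.orderOf_coe]
    exact (hmem m).1 hm⟩
  have hW : W = ⊥ := le_bot_iff.1 (hO ▸ ZStar.le_oddCore hWn
    (by rw [card_map_of_injective M.subtype_injective]; exact hHc))
  rw [map_eq_bot_iff_of_injective _ M.subtype_injective] at hW
  rw [hW, isComplement'_bot_right] at hH
  refine eq_bot_iff.2 fun x hx => ?_
  obtain ⟨g, rfl⟩ := QuotientGroup.mk'_surjective Z x
  have hg : (⟨g, hx⟩ : M) ∈ A := hH ▸ mem_top _
  exact mem_bot.2 ((QuotientGroup.eq_one_iff g).2 hg)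

/-- An isolated 2-element is central. -/
theorem isolated_mem_center : ∀ (n : ℕ) (G : Type u) [Group G] [Finite G], Nat.card G = n →
    Cfsg.oddCore G = ⊥ → ∀ (P : Sylow 2 G) (z : G), z ∈ (P : Subgroup G) →
      (∀ g : G, g * z * g⁻¹ ∈ (P : Subgroup G) → g * z * g⁻¹ = z) → z ∈ center G := by
  intro n
  induction n using Nat.strong_induction_on with
  | _ n ih =>
    intro G _ _ hn hO P z hz hiso
    haveI : Fact (Nat.Prime 2) := ⟨Nat.prime_two⟩
    rcases eq_or_ne z 1 with rfl | hz1
    · exact one_mem _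
    have hPz : ∀ p ∈ (P : Subgroup G), Commute p z := fun p hp =>
      mul_inv_eq_iff_eq_mul.1 (hiso p (mul_mem (mul_mem hp hz) (inv_mem hp)))
    -- the powers of `z` are isolated
    have hpow : ∀ (m : ℕ) (g : G), g * z ^ m * g⁻¹ ∈ (P : Subgroup G) → g * z ^ m * g⁻¹ = z ^ m := by
      intro m g hg
      set w := g * z ^ m * g⁻¹ with hw
      let K : Subgroup G := (P : Subgroup G).map (MulAut.conj g).toMonoidHom
      obtain ⟨c, hc, R, hR, hKR, hcR⟩ := Invol.exists_common_pGroup (centralizer ({w} : Set G))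
        (K := K) (L := zpowers z)
        (by
          rintro _ ⟨p, hp, rfl⟩
          rw [mem_centralizer_singleton_iff]
          show g * p * g⁻¹ * w = w * (g * p * g⁻¹)
          rw [hw, show g * p * g⁻¹ * (g * z ^ m * g⁻¹) = g * (p * z ^ m) * g⁻¹ by group, ((hPz p hp).pow_right m).eq]
          group)
        (by rw [zpowers_le, mem_centralizer_singleton_iff]; exact (hPz w hg).eq.symm)
        (P.2.map _) (P.2.to_le (zpowers_le.2 hz))
      have hRK : R = K := by
        obtain ⟨S, hS⟩ := hR.exists_le_sylow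
        refine (eq_of_le_of_card_ge hKR ?_).symm
        rw [card_map_of_injective (MulEquiv.injective _)]
        exact (card_le_of_le hS).trans (Nat.card_congr (S.equiv P).toEquiv).le
      obtain ⟨p, hp, hpe⟩ := hRK ▸ hcR z (mem_zpowers z)
      have hpe' : g * p * g⁻¹ = c * z * c⁻¹ := hpe
      have hpz : p = (g⁻¹ * c) * z * (g⁻¹ * c)⁻¹ := by
        calc p = g⁻¹ * (g * p * g⁻¹) * g := by group
          _ = g⁻¹ * (c * z * c⁻¹) * g := by rw [hpe']
          _ = _ := by group
      have hcomm : (g⁻¹ * c) * z * (g⁻¹ * c)⁻¹ = z := hiso _ (hpz ▸ hp)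
      have h2 : (g⁻¹ * c) * z ^ m * (g⁻¹ * c)⁻¹ = z ^ m := by rw [← conj_pow, hcomm]
      have h3 : c * z ^ m * c⁻¹ = w := by
        calc c * z ^ m * c⁻¹ = g * ((g⁻¹ * c) * z ^ m * (g⁻¹ * c)⁻¹) * g⁻¹ := by group
          _ = w := by rw [h2]
      have h4 : c * w * c⁻¹ = w := by rw [mem_centralizer_singleton_iff.1 hc, mul_inv_cancel_right]
      exact mul_left_cancel (mul_right_cancel (h4.trans h3.symm))
    obtain ⟨k, hk⟩ := IsPGroup.iff_orderOf.1 P.2 ⟨z, hz⟩
    rw [Subgroup.orderOf_mk] at hk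
    obtain ⟨k, rfl⟩ : ∃ k', k = k' + 1 := ⟨k - 1, by
      have : k ≠ 0 := fun h => hz1 (orderOf_eq_one_iff.1 (by rw [hk, h, pow_zero]))
      omega⟩
    set t := z ^ 2 ^ k
    have ht : orderOf t = 2 := by
      rw [orderOf_pow_of_dvd (pow_ne_zero _ two_ne_zero) (by rw [hk]; exact pow_dvd_pow 2 k.le_succ), hk,
        pow_succ, Nat.mul_div_cancel_left _ (pow_pos two_pos k)]
    have htc : t ∈ center G := ZStar.mem_center_of_isolated hO (Invol.isolated_of_sylow P ht (hpow _))
    set Z := zpowers t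
    have hZc : Z ≤ center G := zpowers_le.2 htc
    haveI : Z.Normal := ⟨fun w hw g => by rw [mem_center_iff.1 (hZc hw) g, mul_inv_cancel_right]; exact hw⟩
    have hZP : Z ≤ (P : Subgroup G) := zpowers_le.2 (pow_mem hz _)
    have hZ2 : IsPGroup 2 Z := P.2.to_le hZP
    set π := QuotientGroup.mk' Z
    have hlt : Nat.card (G ⧸ Z) < n := by
      rw [← hn, card_eq_card_quotient_mul_card_subgroup Z]
      have h1 : 1 < Nat.card Z := by rw [Nat.card_zpowers, ht]; norm_num
      have h2 : 0 < Nat.card (G ⧸ Z) := Nat.card_pos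
      nlinarith
    have hmemP : ∀ g : G, π g ∈ (P : Subgroup G).map π → g ∈ (P : Subgroup G) := by
      rintro g ⟨p, hp, e⟩
      rw [show g = p * (p⁻¹ * g) by group]
      exact mul_mem hp (hZP (QuotientGroup.eq.1 e))
    have hc := ih _ hlt (G ⧸ Z) rfl (oddCore_quotient_eq_bot hO Z hZc hZ2)
      (P.mapSurjective (QuotientGroup.mk'_surjective Z)) (π z) (mem_map_of_mem _ hz) (by
        intro x hx
        obtain ⟨g, rfl⟩ := QuotientGroup.mk'_surjective Z x
        rw [← map_inv, ← map_mul, ← map_mul] at hx ⊢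
        rw [hiso g (hmemP _ hx)])
    refine mem_center_iff.2 fun g => mul_inv_eq_iff_eq_mul.1 (hiso g (hmemP _ ?_))
    rw [map_mul, map_mul, map_inv, mem_center_iff.1 hc (π g), mul_inv_cancel_right]
    exact mem_map_of_mem _ hz

end Cfsg.Lib.TwoClasses
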