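import Cfsg.Agent.Lib.TwoClasses.Fusion
import Cfsg.Agent.Lib.GW.Main
import Cfsg.Agent.Lib.GW.DGroupDihedral
import Cfsg.Agent.Lib.GW.Shape
import Cfsg.Agent.S0228
import Cfsg.Agent.S1012

/-!
# Half as many classes of 2-elements as elements of a Sylow 2-subgroup

Modulo the center such a group with trivial odd core is `A₄`, `S₄`, or almost simple over `PSL₂(q)`,
`q ≡ ±3 (mod 8)`, `q > 3`.
-/

set_option autoImplicit false
set_option linter.style.haveILetI false

namespace Cfsg.Lib.TwoClasses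

open Subgroup
open scoped Classical commutatorElement

universe u

/-- The hypotheses give the two values of the commutators of `P`. -/
theorem exists_ctx {G : Type u} [Group G] [Finite G] (P : Sylow 2 G) (hO : Cfsg.pPrimeCore 2 G = ⊥)
    (hk : 2 * Nat.card {C : ConjClasses G // ∀ x ∈ C.carrier, ∃ k : ℕ, orderOf x = 2 ^ k} =
      Nat.card ↥(P : Subgroup G)) : ∃ c, Ctx P c := by
  haveI := Fintype.ofFinite ↥(P : Subgroup G)
  haveI := Fintype.ofFinite (ConjClasses ↥(P : Subgroup G))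
  have hle : Nat.card {C : ConjClasses G // ∀ x ∈ C.carrier, ∃ k : ℕ, orderOf x = 2 ^ k} ≤
      Nat.card (ConjClasses ↥(P : Subgroup G)) := by
    rw [card_classes P, Nat.card_eq_fintype_card, ← Finset.card_univ]
    refine le_trans (Finset.card_le_card ?_)
      (Finset.card_image_le (f := ConjClasses.map (P : Subgroup G).subtype))
    intro C hC
    obtain ⟨p, -, rfl⟩ := Finset.mem_image.1 hC
    exact Finset.mem_image.2 ⟨ConjClasses.mk p, Finset.mem_univ _, rfl⟩
  obtain ⟨c, hc, hc2, hab⟩ := exists_commutator_value P.2 (by omega)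
  refine ⟨(c : G), hO, c.2, fun p hp => congrArg Subtype.val (mem_center_iff.1 hc ⟨p, hp⟩),
    congrArg Subtype.val hc2, fun a ha b hb => ?_, hk⟩
  rcases hab ⟨b, hb⟩ ⟨a, ha⟩ with h | h
  · left
    have h' : b * a * b⁻¹ * a⁻¹ = 1 := congrArg Subtype.val h
    exact mul_inv_eq_one.1 h'
  · right
    have h' : b * a * b⁻¹ * a⁻¹ = c := congrArg Subtype.val h
    rw [mul_inv_eq_iff_eq_mul.1 h']
    exact (congrArg Subtype.val (mem_center_iff.1 hc ⟨a, ha⟩)).symm

/-- An element of order 3 outside a self-centralizing four group commutes with no involution. -/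
theorem no_commuting_three {X : Type u} [Group X] (V : Subgroup X) [hVn : V.Normal] (hV : IsKleinFour V)
    (hC : centralizer (V : Set X) = V) {x t : X} (hx : orderOf x = 3) (ht : orderOf t = 2) : ¬ Commute x t := by
  intro hxt
  haveI := hV
  haveI : Finite V := Nat.finite_of_card_ne_zero (by rw [IsKleinFour.card_four]; norm_num)
  haveI : Nontrivial V := Finite.one_lt_card_iff_nontrivial.1 (by rw [IsKleinFour.card_four]; norm_num)
  have hsq : ∀ v ∈ V, v * v = 1 := fun v hv =>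
    congrArg Subtype.val (IsKleinFour.mul_self (⟨v, hv⟩ : V))
  have habel : ∀ v ∈ V, ∀ w ∈ V, v * w = w * v := fun v hv w hw =>
    mem_centralizer_iff.1 (hC.ge hw : w ∈ centralizer (V : Set X)) v hv
  have hx1 : x ≠ 1 := fun h => by rw [h, orderOf_one] at hx; omega
  have hxV : x ∉ V := fun h => by
    have := orderOf_dvd_of_pow_eq_one (show x ^ 2 = 1 by rw [pow_two, hsq x h])
    rw [hx] at this
    omega
  have hthird : ∀ v ∈ V, ∀ w ∈ V, ∀ u ∈ V, v ≠ 1 → w ≠ 1 → v ≠ w → u = 1 ∨ u = v ∨ u = w ∨ u = v * w := by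
    intro v hv w hw u hu hv1 hw1 hvw
    by_contra hne
    push Not at hne
    refine hne.2.2.2 (congrArg Subtype.val (IsKleinFour.eq_mul_of_ne_all
      (x := (⟨v, hv⟩ : V)) (y := ⟨w, hw⟩) (z := ⟨u, hu⟩) ?_ ?_ ?_ ?_ ?_ ?_) :)
    all_goals intro h
    all_goals have h' := congrArg Subtype.val h
    exacts [hv1 h', hw1 h', hvw h', hne.1 h', hne.2.1 h', hne.2.2.1 h']
  -- an element of order 3 fixes no involution of `V`
  have key : ∀ v ∈ V, v ≠ 1 → x * v * x⁻¹ ≠ v := by
    intro v hv hv1 hfix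
    refine hxV (hC.le (mem_centralizer_iff.2 fun w hw => ?_))
    rcases eq_or_ne w 1 with rfl | hw1
    · simp
    rcases eq_or_ne v w with rfl | hvw
    · exact (mul_inv_eq_iff_eq_mul.1 hfix).symm
    have hw' : x * w * x⁻¹ ∈ V := hVn.conj_mem w hw x
    have h2 : Commute (x ^ 2) w := by
      refine mul_inv_eq_iff_eq_mul.1 ?_
      rw [show x ^ 2 * w * (x ^ 2)⁻¹ = x * (x * w * x⁻¹) * x⁻¹ by rw [pow_two]; group]
      rcases hthird v hv w hw _ hw' hv1 hw1 hvw with e | e | e | e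
      · exact absurd (conj_eq_one_iff.1 e) hw1
      · exact absurd (mul_left_cancel (mul_right_cancel (e.trans hfix.symm))) (Ne.symm hvw)
      · rw [e, e]
      · rw [e, show x * (v * w) * x⁻¹ = (x * v * x⁻¹) * (x * w * x⁻¹) by group, hfix, e, ← mul_assoc,
          hsq v hv, one_mul]
    have h3 : x = (x ^ 2) ^ 2 := by
      rw [← pow_mul, show 2 * 2 = orderOf x + 1 by omega, pow_succ, pow_orderOf_eq_one, one_mul]
    rw [h3]
    exact (h2.pow_left 2).eq.symm
  have ht1 : t ≠ 1 := fun h => by rw [h, orderOf_one] at ht; omega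
  have htt : t * t = 1 := Cfsg.Lib.Invol.inv_mul_self ht
  by_cases htV : t ∈ V
  · exact key t htV ht1 (by rw [hxt.eq, mul_inv_cancel_right])
  obtain ⟨v, hv, hv1, hvt⟩ : ∃ v ∈ V, v ≠ 1 ∧ Commute t v := by
    obtain ⟨⟨v, hv⟩, hv1⟩ : ∃ v : V, v ≠ 1 := exists_ne 1
    have hv1' : v ≠ 1 := fun h => hv1 (Subtype.ext h)
    have hv' : t * v * t⁻¹ ∈ V := hVn.conj_mem v hv t
    by_cases h : t * v * t⁻¹ = v
    · exact ⟨v, hv, hv1', mul_inv_eq_iff_eq_mul.1 h⟩
    refine ⟨v * (t * v * t⁻¹), mul_mem hv hv', fun e => h ?_, mul_inv_eq_iff_eq_mul.1 ?_⟩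
    · rw [← inv_eq_of_mul_eq_one_right e]
      exact inv_eq_of_mul_eq_one_right (hsq v hv)
    · calc t * (v * (t * v * t⁻¹)) * t⁻¹ = (t * v * t⁻¹) * ((t * t) * v * (t * t)⁻¹) := by group
        _ = v * (t * v * t⁻¹) := by rw [htt, one_mul, inv_one, mul_one, habel _ hv' v hv]
  have hw : x * v * x⁻¹ ∈ V := hVn.conj_mem v hv x
  have hw1 : x * v * x⁻¹ ≠ 1 := fun h => hv1 (conj_eq_one_iff.1 h)
  have hwt : Commute t (x * v * x⁻¹) := (hxt.symm.mul_right hvt).mul_right hxt.symm.inv_right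
  refine htV (hC.le (mem_centralizer_iff.2 fun u hu => ?_))
  rcases hthird v hv _ hw u hu hv1 hw1 (key v hv hv1).symm with rfl | rfl | rfl | rfl
  · simp
  · exact hvt.eq.symm
  · exact hwt.eq.symm
  · exact (hvt.mul_right hwt).eq.symm

/-- Half as many classes of 2-elements as elements of a Sylow 2-subgroup. -/
theorem main {G : Type u} [Group G] [Finite G] (P : Sylow 2 G) (hO : Cfsg.pPrimeCore 2 G = ⊥)
    (hk : 2 * Nat.card {C : ConjClasses G // ∀ x ∈ C.carrier, ∃ k : ℕ, orderOf x = 2 ^ k} =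
      Nat.card ↥(P : Subgroup G)) :
    Nonempty (G ⧸ Subgroup.center G ≃* ↥(alternatingGroup (Fin 4))) ∨
      Nonempty (G ⧸ Subgroup.center G ≃* Equiv.Perm (Fin 4)) ∨
    ∃ S : Subgroup (G ⧸ Subgroup.center G), S.Normal ∧ IsSimpleGroup ↥S ∧ ¬ IsMulCommutative ↥S ∧
      Subgroup.centralizer (S : Set (G ⧸ Subgroup.center G)) = ⊥ ∧
      ∃ (F : Type) (_ : Field F) (_ : Fintype F), 3 < Fintype.card F ∧
        (Fintype.card F % 8 = 3 ∨ Fintype.card F % 8 = 5) ∧
        Nonempty (↥S ≃* Matrix.ProjectiveSpecialLinearGroup (Fin 2) F) := by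
  haveI : Fact (Nat.Prime 2) := ⟨Nat.prime_two⟩
  obtain ⟨c, x⟩ := exists_ctx P hO hk
  let Q : Sylow 2 (G ⧸ center G) := P.mapSurjective (QuotientGroup.mk'_surjective (center G))
  obtain ⟨hcd, ⟨z, hzQ, hzc, w, hwQ, hzw, hwz⟩, hQcard⟩ := x.quotFacts Q rfl
  have hD : GW.TwoCycDih (G ⧸ center G) := GW.TwoCycDih.of_sylow Q hcd
  have hO' : Cfsg.oddCore (G ⧸ center G) = ⊥ :=
    oddCore_quotient_eq_bot x.core (center G) le_rfl (P.2.to_le x.center_le)
  cases GW.shape hD (GW.gwSections_of_simpleGW GW.simpleGW hD) hO' with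
  | twoGroup h =>
    exfalso
    have htop : (Q : Subgroup (G ⧸ center G)) = ⊤ :=
      (Q.3 (h.to_subgroup ⊤) le_top).symm
    obtain ⟨g, hg⟩ := isConj_iff.1 hzw
    refine hwz ?_
    rw [← hg, (hzc g (htop ▸ mem_top g)).eq, mul_inv_cancel_right]
  | four V hVn hV hC hcard =>
    rcases hcard with h12 | h24
    · refine Or.inl (Cfsg.Agent.S0228.result h12 fun t ht htc => ?_)
      haveI : Fact (Nat.Prime 3) := ⟨Nat.prime_three⟩
      obtain ⟨y, hy⟩ := exists_prime_orderOf_dvd_card' (G := G ⧸ center G) 3 (by rw [h12]; norm_num)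
      exact no_commuting_three V hV hC hy ht (mem_center_iff.1 htc y)
    · refine Or.inr (Or.inl (Cfsg.Agent.S1012.result h24 fun g hg => ?_))
      refine no_commuting_three V hV hC (x := g ^ 2) (t := g ^ 3) ?_ ?_ ((Commute.refl g).pow_pow 2 3)
      · rw [orderOf_pow_of_dvd two_ne_zero (by rw [hg]; norm_num), hg]
      · rw [orderOf_pow_of_dvd three_ne_zero (by rw [hg]; norm_num), hg]
  | component E hEn hEs hEna hgw hEd hC hmin h4 =>
    refine Or.inr (Or.inr ⟨E, hEn, hEs, hEna, hC, ?_⟩)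
    have h8 : ¬ 8 ∣ Nat.card E := by
      intro h8
      have hX := card_mul_index (Q : Subgroup (G ⧸ center G))
      have hE := card_mul_index E
      have hQodd : ¬ 2 ∣ (Q : Subgroup (G ⧸ center G)).index := Q.not_dvd_index
      have h8X : 8 ∣ Nat.card (Q : Subgroup (G ⧸ center G)) * (Q : Subgroup (G ⧸ center G)).index := by
        rw [hX, ← hE]; exact h8.mul_right _
      rcases hQcard with hQ4 | ⟨hQ8, s, t, -, -, hs, ht, hst⟩
      · rw [hQ4, show (8 : ℕ) = 4 * 2 from rfl] at h8X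
        exact hQodd (Nat.dvd_of_mul_dvd_mul_left (by norm_num) h8X)
      have hodd : Odd E.index := by
        rw [← Nat.not_even_iff_odd, even_iff_two_dvd]
        intro h2
        refine hQodd (Nat.dvd_of_mul_dvd_mul_left (show 0 < 8 by norm_num) ?_)
        rw [← hQ8, hX, ← hE, hQ8]
        exact mul_dvd_mul h8 h2
      have hmem : ∀ u : G ⧸ center G, orderOf u = 2 → u ∈ E := fun u hu =>
        GW.DGroup.involution_mem_of_odd_index E hodd (Cfsg.Lib.Invol.inv_mul_self hu)
      set s' : E := ⟨s, hmem s hs⟩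
      set t' : E := ⟨t, hmem t ht⟩
      have hs' : orderOf s' = 2 := by rw [Subgroup.orderOf_mk, hs]
      have ht' : orderOf t' = 2 := by rw [Subgroup.orderOf_mk, ht]
      have hconj : IsConj s' t' := by
        rcases hgw with ⟨F, i, i', hodd, h3, ⟨e⟩⟩ | ⟨⟨e⟩⟩
        · have key : ∀ u : E, orderOf u = 2 → e u ^ 2 = 1 ∧ e u ≠ 1 := fun u hu =>
            ⟨by rw [← map_pow, (hu ▸ pow_orderOf_eq_one u : u ^ 2 = 1), map_one],
              fun h => by rw [e.map_eq_one_iff.1 h, orderOf_one] at hu; omega⟩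
          obtain ⟨d, hd⟩ := Cfsg.Lib.Dickson.exists_conj_involution (Nat.odd_iff.1 hodd)
            (key s' hs').1 (key s' hs').2 (key t' ht').1 (key t' ht').2
          refine isConj_iff.2 ⟨(e.symm d)⁻¹, e.injective ?_⟩
          rw [inv_inv, map_mul, map_mul, map_inv, e.apply_symm_apply, hd]
        · obtain ⟨g, hg⟩ := isConj_iff.1 (GW.DGroup.alt_seven_conj (x := e s') (y := e t')
            (by rw [e.orderOf_eq, hs']) (by rw [e.orderOf_eq, ht']))
          refine isConj_iff.2 ⟨e.symm g, e.injective ?_⟩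
          rw [map_mul, map_mul, map_inv, e.apply_symm_apply, hg]
      exact hst (E.subtype.map_isConj hconj)
    rcases hgw with ⟨F, i, i', hodd, h3, he⟩ | ⟨⟨e⟩⟩
    · refine ⟨F, i, i', h3, ?_, he⟩
      obtain ⟨e⟩ := he
      have hcard := GW.DGroup.card_psl_two (F := F) hodd
      rw [← Nat.card_congr e.toEquiv] at hcard
      generalize Fintype.card F = q at hcard hodd
      obtain ⟨a, r, hr, rfl⟩ : ∃ a r, r < 8 ∧ q = 8 * a + r :=
        ⟨q / 8, q % 8, Nat.mod_lt _ (by norm_num), (Nat.div_add_mod q 8).symm⟩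
      rw [Nat.odd_iff] at hodd
      rw [Nat.dvd_iff_mod_eq_zero] at h8
      interval_cases r <;> first | omega | (exfalso; ring_nf at hcard; omega)
    · exfalso
      refine h8 ?_
      rw [Nat.card_congr e.toEquiv, nat_card_alternatingGroup, Nat.card_fin]
      norm_num [Nat.factorial]

end Cfsg.Lib.TwoClasses
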